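import Mathlib

/-!
# The arithmetic of Brauer's theorem on groups with a Sylow subgroup of order `p`

Divisors `a ≡ ±1 (mod p)` of `q (1 + n p)`, where `q t + 1 = p`.
-/

set_option autoImplicit false

namespace Cfsg.Agent.BrauerPSL

/-- `n` is not of the form `(h u p + u ^ 2 + u + h) / (u + 1)`. -/
def NonF (p n : ℕ) : Prop :=
  ¬ ∃ h u : ℕ, 0 < h ∧ 0 < u ∧ n * (u + 1) = h * u * p + u ^ 2 + u + h

/-- Small `n` is never of that form. -/
theorem nonF_of_lt {p n : ℕ} (h : 2 * n < p + 3) : NonF p n := by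
  rintro ⟨h', u, hh, hu, e⟩
  have e1 : u * p ≤ h' * u * p := by
    calc u * p = 1 * (u * p) := (one_mul _).symm
    _ ≤ h' * (u * p) := Nat.mul_le_mul_right _ hh
    _ = h' * u * p := (mul_assoc _ _ _).symm
  have e2 : 2 * n * (u + 1) ≤ (p + 2) * (u + 1) := Nat.mul_le_mul_right _ (by omega)
  have e3 : p ≤ u * p := Nat.le_mul_of_pos_left p hu
  have e4 : u ≤ u ^ 2 := Nat.le_self_pow two_ne_zero u
  nlinarith

variable {p t q n : ℕ}

theorem eq_of_one_modEq (htq : t * q + 1 = p) (hq : 0 < q) (ht : 0 < t) (hn : NonF p n) {a v : ℕ}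
    (hav : a * v = q * (1 + n * p)) (ha : ∃ u, a = u * p + 1) : a = 1 ∨ a = 1 + n * p := by
  obtain ⟨u, rfl⟩ := ha
  rcases Nat.eq_zero_or_pos u with rfl | hu
  · exact Or.inl (by simp)
  have e : ((u : ℤ) * p + 1) * v = q * (1 + n * p) := by exact_mod_cast hav
  have hqp : (q : ℤ) < p := by
    have : q ≤ t * q := Nat.le_mul_of_pos_left q ht
    omega
  obtain ⟨w, hw⟩ : ∃ w : ℤ, (v : ℤ) = w * p + q := ⟨(q : ℤ) * n - u * v, by linear_combination e⟩
  have hw0 : 0 ≤ w := by
    by_contra hneg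
    have : w * p ≤ -1 * p := Int.mul_le_mul_of_nonneg_right (by omega) (by positivity)
    linarith [Int.natCast_nonneg v]
  have hp0 : (p : ℤ) ≠ 0 := by omega
  have e2 : (q : ℤ) * n = u * p * w + u * q + w := by
    refine mul_left_cancel₀ hp0 ?_
    linear_combination -e + ((u : ℤ) * p + 1) * hw
  rcases hw0.eq_or_lt with hw0 | hw0
  · right
    have hnu : (q : ℤ) * n = q * u := by rw [← hw0] at e2; linear_combination e2
    have : n = u := by exact_mod_cast mul_left_cancel₀ (by omega : (q : ℤ) ≠ 0) hnu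
    rw [this, add_comm]
  · exfalso
    have ht' : (t : ℤ) * q + 1 = p := by exact_mod_cast htq
    set h : ℤ := (n : ℤ) - u - u * t * w with hh
    have e3 : (q : ℤ) * h = w * (u + 1) := by
      rw [hh]; linear_combination e2 - (u : ℤ) * w * ht'
    have hhpos : 0 < h := by
      by_contra hc
      have h1 : (q : ℤ) * h ≤ 0 := mul_nonpos_of_nonneg_of_nonpos (by positivity) (by omega)
      have h2 : 0 < w * ((u : ℤ) + 1) := mul_pos hw0 (by positivity)
      linarith
    refine hn ⟨h.toNat, u, by omega, hu, ?_⟩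
    have : (n : ℤ) * (u + 1) = h * u * p + u ^ 2 + u + h := by
      refine mul_left_cancel₀ (by omega : (q : ℤ) ≠ 0) ?_
      linear_combination ((u : ℤ) + 1) * e2 - ((u : ℤ) * p + 1) * e3
    have h3 : ((h.toNat : ℕ) : ℤ) = h := Int.toNat_of_nonneg hhpos.le
    rw [← h3] at this
    exact_mod_cast this

theorem eq_of_neg_one_modEq (htq : t * q + 1 = p) (hq : 0 < q) (ht : 0 < t) (hn : NonF p n)
    {a v : ℕ} (hav : a * v = q * (1 + n * p)) (ha : ∃ u, a + 1 = u * p) :
    a + 1 = p ∨ (t = 1 ∧ a = q * (1 + n * p)) := by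
  obtain ⟨u, hu⟩ := ha
  rcases Nat.lt_or_ge u 2 with hu2 | hu2
  · left
    interval_cases u
    · omega
    · omega
  have hqp : (q : ℤ) < p := by
    have : q ≤ t * q := Nat.le_mul_of_pos_left q ht
    omega
  have e : ((u : ℤ) * p - 1) * v = q * (1 + n * p) := by
    have : (a : ℤ) = u * p - 1 := by
      have : (a : ℤ) + 1 = u * p := by exact_mod_cast hu
      linarith
    rw [← this]; exact_mod_cast hav
  obtain ⟨w, hw⟩ : ∃ w : ℤ, (v : ℤ) = w * p - q := ⟨(u : ℤ) * v - q * n, by linear_combination -e⟩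
  have hp0 : (p : ℤ) ≠ 0 := by omega
  have hw0 : 0 < w := by
    by_contra hneg
    have : w * p ≤ 0 := mul_nonpos_of_nonpos_of_nonneg (by omega) (by positivity)
    have := Int.natCast_nonneg v
    omega
  have e2 : (q : ℤ) * n = u * p * w - u * q - w := by
    refine mul_left_cancel₀ hp0 ?_
    linear_combination -e + ((u : ℤ) * p - 1) * hw
  have ht' : (t : ℤ) * q + 1 = p := by exact_mod_cast htq
  set D : ℤ := w * t with hD
  have hDpos : 1 ≤ D := Int.add_one_le_iff.2 (mul_pos hw0 (by exact_mod_cast ht : (0 : ℤ) < t))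
  rcases hDpos.eq_or_lt with hD1 | hD1
  · right
    have hw1 : w = 1 := Int.eq_one_of_mul_eq_one_right hw0.le (hD1.symm ▸ hD.symm)
    have ht1 : (t : ℤ) = 1 := by rw [hD, hw1, one_mul] at hD1; exact hD1.symm
    refine ⟨by exact_mod_cast ht1, ?_⟩
    have hv : (v : ℤ) = 1 := by rw [hw, hw1, ← ht', ht1]; ring
    have hv1 : v = 1 := by exact_mod_cast hv
    rw [← hav, hv1, mul_one]
  · exfalso
    obtain ⟨h', e3⟩ : ∃ h' : ℤ, (q : ℤ) * h' = w * ((u : ℤ) - 1) :=
      ⟨(n : ℤ) + u - u * D, by rw [hD]; linear_combination e2 - (u : ℤ) * w * ht'⟩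
    have hh' : 0 < h' := by
      by_contra hc
      have h1 : (q : ℤ) * h' ≤ 0 := mul_nonpos_of_nonneg_of_nonpos (by positivity) (by omega)
      have h2 : 0 < w * ((u : ℤ) - 1) := mul_pos hw0 (by omega)
      linarith
    refine hn ⟨h'.toNat, (D - 1).toNat, by omega, by omega, ?_⟩
    have e4 : (n : ℤ) + u = h' * p + D := by
      refine mul_left_cancel₀ (by omega : (q : ℤ) ≠ 0) ?_
      rw [hD]; linear_combination e2 - (p : ℤ) * e3 - w * ht'
    have e5 : ((u : ℤ) - 1) * D = h' * (p - 1) := by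
      rw [hD]; linear_combination -(t : ℤ) * e3 + h' * ht'
    have : (n : ℤ) * ((D - 1) + 1) = h' * (D - 1) * p + (D - 1) ^ 2 + (D - 1) + h' := by
      linear_combination D * e4 - e5
    have h3 : ((h'.toNat : ℕ) : ℤ) = h' := Int.toNat_of_nonneg hh'.le
    have h4 : (((D - 1).toNat : ℕ) : ℤ) = D - 1 := Int.toNat_of_nonneg (by omega)
    rw [← h3, ← h4] at this
    exact_mod_cast this

/-- The complementary divisor of `b ≡ q (mod p)`. -/
theorem exists_one_modEq (hp : p.Prime) (hqp : q < p) (hq : 0 < q) {b v : ℕ}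
    (hbv : b * v = q * (1 + n * p)) (hb : (b : ℤ) ≡ q [ZMOD p]) : ∃ u, v = u * p + 1 := by
  have h1 : (q : ℤ) * v ≡ q * 1 [ZMOD p] := by
    refine (hb.symm.mul_right v).trans ?_
    rw [show (b : ℤ) * v = q * (1 + n * p) by exact_mod_cast hbv, Int.modEq_iff_dvd]
    exact ⟨-(q * n : ℤ), by ring⟩
  have hcop : Int.gcd p q = 1 := by
    rw [Int.gcd_natCast_natCast]
    exact (hp.coprime_iff_not_dvd).2 fun h => by have := Nat.le_of_dvd hq h; omega
  have h2 : (v : ℤ) ≡ 1 [ZMOD p] := by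
    have := h1.cancel_left_div_gcd (by exact_mod_cast hp.pos)
    rw [hcop, Nat.cast_one, Int.ediv_one] at this
    exact this
  have h3 : v % p = 1 := by
    have : ((v % p : ℕ) : ℤ) = (1 : ℤ) := by
      rw [Int.natCast_emod]
      rw [Int.ModEq] at h2
      rw [h2, Int.emod_eq_of_lt zero_le_one (by exact_mod_cast hp.one_lt)]
    exact_mod_cast this
  exact ⟨v / p, by have := Nat.div_add_mod v p; rw [h3] at this; rw [mul_comm]; omega⟩

/-- The complementary divisor of `b ≡ -q (mod p)`. -/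
theorem exists_neg_one_modEq (hp : p.Prime) (hqp : q < p) (hq : 0 < q) {b v : ℕ}
    (hbv : b * v = q * (1 + n * p)) (hb : (b : ℤ) ≡ -q [ZMOD p]) : ∃ u, v + 1 = u * p := by
  have h1 : (q : ℤ) * (-v) ≡ q * 1 [ZMOD p] := by
    rw [show (q : ℤ) * (-v) = -(q : ℤ) * v by ring]
    refine (hb.symm.mul_right v).trans ?_
    rw [show (b : ℤ) * v = q * (1 + n * p) by exact_mod_cast hbv, Int.modEq_iff_dvd]
    exact ⟨-(q * n : ℤ), by ring⟩
  have hcop : Int.gcd p q = 1 := by
    rw [Int.gcd_natCast_natCast]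
    exact (hp.coprime_iff_not_dvd).2 fun h => by have := Nat.le_of_dvd hq h; omega
  have h2 : -(v : ℤ) ≡ 1 [ZMOD p] := by
    have := h1.cancel_left_div_gcd (by exact_mod_cast hp.pos)
    rw [hcop, Nat.cast_one, Int.ediv_one] at this
    exact this
  obtain ⟨k, hk⟩ : (p : ℤ) ∣ (v : ℤ) + 1 := by
    have := h2.dvd
    rwa [sub_neg_eq_add, add_comm] at this
  have hk0 : 0 ≤ k := by
    by_contra hc
    have : (p : ℤ) * k ≤ 0 := mul_nonpos_of_nonneg_of_nonpos (by positivity) (by omega)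
    have := Int.natCast_nonneg v
    omega
  refine ⟨k.toNat, ?_⟩
  have : (v : ℤ) + 1 = (k.toNat : ℤ) * p := by rw [Int.toNat_of_nonneg hk0, hk, mul_comm]
  exact_mod_cast this

end Cfsg.Agent.BrauerPSL
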