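import Cfsg.Agent.Lib.BrauerPSL.Arith
import Cfsg.Agent.Lib.DefectOne.PrincipalOne
import Cfsg.Agent.Lib.Char.PRegular

/-!
# The degrees in the principal block of a perfect group with a Sylow subgroup of order `p`

`BData`: the nontrivial principal block characters sorted by their values on `P`; `main_degrees`:
if `1 + n₀ p` is a multiple of the number of Sylow subgroups and `n₀` is not of the form
`(h u p + u ^ 2 + u + h) / (u + 1)`, the degrees are `1 + n p`, `p - 1` and `m` or `(1 + n p) / t`.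
-/

set_option autoImplicit false
set_option linter.style.haveILetI false
set_option linter.unusedSectionVars false

namespace Cfsg.Agent.BrauerPSL

open Cfsg Cfsg.Agent
open scoped ComplexConjugate Classical

universe u

variable {G : Type u} [Group G] [Fintype G] {p : ℕ} [hp : Fact p.Prime] (P : Sylow p G)

/-- The nontrivial members of the principal block. -/
structure BData (m t : ℕ) where
  Pos : Finset (IrrCharacter G)
  Neg : Finset (IrrCharacter G)
  Θ : Finset (IrrCharacter G)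
  ε : ℤ
  hε : ε = 1 ∨ ε = -1
  one : t = 1 → ε = -1
  card_sum : Pos.card + Neg.card + 1 = m
  cardΘ : Θ.card = t
  htm : t * m + 1 = p
  disjPN : Disjoint Pos Neg
  disjPΘ : Disjoint Pos Θ
  disjNΘ : Disjoint Neg Θ
  nontriv : ∀ χ ∈ Pos ∪ Neg ∪ Θ, charDegree χ.1 ≠ 1
  pos_val : ∀ χ ∈ Pos, ∀ y ∈ (P : Subgroup G), y ≠ 1 → χ.1 y = 1
  neg_val : ∀ χ ∈ Neg, ∀ y ∈ (P : Subgroup G), y ≠ 1 → χ.1 y = -1
  neg_section : ∀ χ ∈ Neg, ∀ y ∈ (P : Subgroup G), y ≠ 1 →
    ∀ v ∈ Subgroup.centralizer ({y} : Set G), ¬ p ∣ orderOf v → χ.1 (y * v) = -1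
  sum_val : ∀ y ∈ (P : Subgroup G), y ≠ 1 → ∑ θ ∈ Θ, θ.1 y = -(ε : ℂ)
  pos_mod : ∀ χ ∈ Pos, (charDegree χ.1 : ℤ) ≡ 1 [ZMOD p]
  neg_mod : ∀ χ ∈ Neg, (charDegree χ.1 : ℤ) ≡ -1 [ZMOD p]
  theta_mod : ∀ θ ∈ Θ, (charDegree θ.1 : ℤ) ≡ ε * m [ZMOD p]
  agree : ∀ θ ∈ Θ, ∀ θ' ∈ Θ, ∀ g, IsPRegular p g → θ.1 g = θ'.1 g
  relation : ∀ θ ∈ Θ, ∀ g, IsPRegular p g →
    (ε : ℂ) * θ.1 g = 1 + ∑ χ ∈ Pos, χ.1 g - ∑ χ ∈ Neg, χ.1 g

variable {P}

theorem eq_trivialChar_of_perfect (hperf : commutator G = ⊤) {χ : IrrCharacter G}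
    (h : charDegree χ.1 = 1) : χ = Char.trivialChar G := by
  obtain ⟨f, hf⟩ := Char.IsCharacter.exists_monoidHom (Char.irr_isCharacter χ)
    (by rw [← Char.charDegree_cast, h, Nat.cast_one])
  have hker : commutator G ≤ f.ker := by
    rw [commutator_def, Subgroup.commutator_le]
    intro a _ b _
    rw [MonoidHom.mem_ker, commutatorElement_def, map_mul, map_mul, map_mul, mul_comm (f a),
      mul_assoc (f b), ← map_mul f, mul_inv_cancel, map_one, mul_one, ← map_mul, mul_inv_cancel,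
      map_one]
  refine Subtype.ext (funext fun g => ?_)
  rw [← hf]
  exact f.mem_ker.1 (hker (hperf ▸ Subgroup.mem_top g))

theorem charDegree_trivial : charDegree (Char.trivialChar G).1 = 1 := by
  apply Nat.cast_injective (R := ℂ)
  rw [Char.charDegree_cast]
  simp [Char.trivialChar]

theorem isPRegular_one : IsPRegular p (1 : G) := by
  simp [IsPRegular, hp.out.ne_one]

theorem centralizer_eq_of_mem (hP : Nat.card P = p) {y : G} (hy : y ∈ (P : Subgroup G))
    (hy1 : y ≠ 1) : Subgroup.centralizer ({y} : Set G) =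
      Subgroup.centralizer ((P : Subgroup G) : Set G) := by
  have h1 : Subgroup.zpowers y = (P : Subgroup G) := by
    refine Subgroup.eq_of_le_of_card_ge (Subgroup.zpowers_le.2 hy) ?_
    rw [Nat.card_zpowers, hP]
    rcases (Nat.dvd_prime hp.out).1
      (hP ▸ Subgroup.orderOf_dvd_natCard _ hy : orderOf y ∣ p) with h | h
    · exact absurd (orderOf_eq_one_iff.1 h) hy1
    · exact h.ge
  rw [← Blocks.centralizer_zpowers_eq, h1]

theorem card_class (hP : Nat.card P = p) {m : ℕ}
    (hm : (Subgroup.centralizer ((P : Subgroup G) : Set G)).relIndex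
      (Subgroup.normalizer ((P : Subgroup G) : Set G)) = m)
    {y : G} (hy : y ∈ (P : Subgroup G)) (hy1 : y ≠ 1) :
    Nat.card {h : G // IsConj y h} = m * Nat.card (Sylow p G) := by
  have h1 := Char.card_centralizer_mul_card_conj y
  have h2 := (Subgroup.centralizer ({y} : Set G)).card_mul_index
  have h3 : Nat.card {h : G // IsConj y h} = (Subgroup.centralizer ({y} : Set G)).index :=
    Nat.eq_of_mul_eq_mul_left Nat.card_pos (h1.trans h2.symm)
  rw [h3, centralizer_eq_of_mem hP hy hy1,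
    ← Subgroup.relIndex_mul_index (Subgroup.centralizer_le_normalizer _), hm,
    P.card_eq_index_normalizer]
  rfl

/-- Characters with total value `±1` at `y` on a set of equal degrees `d`. -/
theorem dvd_card_class (s : Finset (IrrCharacter G)) {d : ℕ} (hd : 0 < d)
    (hdeg : ∀ χ ∈ s, charDegree χ.1 = d) (y : G) {a : ℤ} (ha : a = 1 ∨ a = -1)
    (hsum : ∑ χ ∈ s, χ.1 y = a) : d ∣ Nat.card {h : G // IsConj y h} := by
  set K := Nat.card {h : G // IsConj y h} with hK
  have hd0 : (d : ℂ) ≠ 0 := Nat.cast_ne_zero.2 hd.ne'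
  have hint : IsIntegral ℤ (∑ χ ∈ s, (K : ℂ) * χ.1 y / d) := by
    refine IsIntegral.sum _ fun χ hχ => ?_
    obtain ⟨N, ρ, hρ, hch⟩ := χ.2
    haveI := hρ
    have h1 := CharInt.isIntegral_omega ρ y
    have h2 : (Module.finrank ℂ (Fin N → ℂ) : ℂ) = d := by
      rw [← ρ.char_one, hch, ← Char.charDegree_cast, hdeg χ hχ]
    rwa [h2, hch] at h1
  obtain ⟨z, hz⟩ := Char.exists_int_of_isIntegral_mul hint (c := d) (N := K * a)
    (by exact_mod_cast hd.ne') (by
      rw [← Finset.sum_div, ← Finset.mul_sum, hsum]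
      push_cast
      field_simp)
  rw [← Finset.sum_div, ← Finset.mul_sum, hsum, div_eq_iff hd0] at hz
  have h3 : (K : ℤ) * a = z * d := by exact_mod_cast hz
  have h4 : (d : ℤ) ∣ (K : ℤ) := by
    rcases ha with h | h <;> rw [h] at h3
    · exact ⟨z, by linear_combination h3⟩
    · exact ⟨-z, by linear_combination -h3⟩
  exact_mod_cast h4

variable {M : Ideal AlgInt} [M.IsMaximal]

theorem exists_bdata (hperf : commutator G = ⊤) (hpM : (p : AlgInt) ∈ M) (hP : Nat.card P = p)
    {m : ℕ} (hm : (Subgroup.centralizer ((P : Subgroup G) : Set G)).relIndex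
      (Subgroup.normalizer ((P : Subgroup G) : Set G)) = m) :
    ∃ t, 0 < t ∧ Nonempty (BData P m t) := by
  obtain ⟨S⟩ := DefectOne.primeShape (P := P) hpM hP hm
  have hm0 : 0 < m := hm ▸ Nat.pos_of_ne_zero Subgroup.FiniteIndex.index_ne_zero
  have htm : (p - 1) / m * m + 1 = p := by
    rw [Nat.div_mul_cancel S.m_dvd]
    have := hp.out.one_lt
    omega
  set t := (p - 1) / m with ht
  have ht0 : 0 < t := by
    rcases Nat.eq_zero_or_pos t with h | h
    · rw [h, zero_mul] at htm; exact absurd htm.symm hp.out.ne_one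
    · exact h
  refine ⟨t, ht0, ?_⟩
  have hd := DefectOne.freeData_of_card_eq hP
  set B := (principalBlock M G).toFinset with hB
  have hBu : B = S.X ∪ S.Y := by
    ext χ; simp [hB, S.union]
  have htriv : Char.trivialChar G ∈ S.X ∪ S.Y := by
    rw [← hBu, hB, Set.mem_toFinset]; exact Blocks.trivial_mem_principalBlock
  have hSX : ∀ χ ∈ S.X, ∀ y ∈ (P : Subgroup G), y ≠ 1 → χ.1 y = S.εX χ := fun χ hχ y hy hy1 =>
    S.X_val χ hχ ⟨y, hy⟩ (fun e => hy1 (congrArg Subtype.val e))
  have hrel1 : ∀ θ ∈ S.Y, (S.ε : ℂ) * θ.1 1 = ∑ χ ∈ S.X, (S.εX χ : ℂ) * χ.1 1 := fun θ hθ =>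
    S.relation θ hθ 1 isPRegular_one
  obtain ⟨θ₀, hθ₀⟩ : S.Y.Nonempty := Finset.card_pos.1 (by rw [S.cardY]; exact ht0)
  have hYdeg : ∀ θ ∈ S.Y, θ.1 1 = θ₀.1 1 := fun θ hθ => S.agree θ hθ θ₀ hθ₀ 1 isPRegular_one
  -- the column orthogonality between `1` and `y`
  have hsum : ∀ y ∈ (P : Subgroup G), y ≠ 1 → ∑ θ ∈ S.Y, θ.1 y = -(S.ε : ℂ) := by
    intro y hy hy1
    have h := DefectOne.sum_block_conj (G := G) hpM (hd.isPPart_self hy)
      (hd.isPPart_self (one_mem (P : Subgroup G)))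
      (fun hc => hy1 (isConj_one_left.1 hc))
    have hf : (Finset.univ.filter (· ∈ principalBlock M G)) = S.X ∪ S.Y := by
      rw [← hBu]; ext χ; simp [hB]
    rw [hf, Finset.sum_union S.disj] at h
    simp only [← Char.charDegree_cast, map_natCast] at h
    simp only [Char.charDegree_cast] at h
    rw [Finset.sum_congr rfl (fun χ hχ => show χ.1 y * χ.1 1 = (S.εX χ : ℂ) * χ.1 1 by
        rw [hSX χ hχ y hy hy1]),
      Finset.sum_congr (s₁ := S.Y) rfl (fun θ hθ => show θ.1 y * θ.1 1 = θ₀.1 1 * θ.1 y by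
        rw [hYdeg θ hθ, mul_comm]),
      ← Finset.mul_sum, ← hrel1 θ₀ hθ₀] at h
    have h2 : θ₀.1 1 * ((S.ε : ℂ) + ∑ θ ∈ S.Y, θ.1 y) = 0 := by linear_combination h
    rw [mul_eq_zero] at h2
    have h3 := h2.resolve_left (Char.IsIrrCharacter.apply_one_ne_zero θ₀.2)
    linear_combination h3
  have hsec : ∀ χ ∈ S.X ∪ S.Y, ∀ y ∈ (P : Subgroup G), y ≠ 1 →
      ∀ v ∈ Subgroup.centralizer ({y} : Set G), ¬ p ∣ orderOf v → χ.1 (y * v) = χ.1 y := by
    intro χ hχ y hy hy1 v hv hvr
    have hχB : χ ∈ principalBlock M G := by rw [← Set.mem_toFinset, ← hB, hBu]; exact hχ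
    exact hd.apply_section hpM hχB
      ⟨v, rfl, (Subgroup.mem_centralizer_singleton_iff.1 hv).symm, hd.exists_pow_orderOf hy, hvr⟩ hy hy1
  rcases Nat.lt_or_ge t 2 with ht2 | ht2
  · -- every member has a constant sign
    have ht1 : t = 1 := by omega
    have hY : S.Y = {θ₀} := by
      refine (Finset.eq_singleton_iff_unique_mem.2 ⟨hθ₀, fun x hx => ?_⟩)
      exact Finset.card_le_one.1 (by rw [S.cardY]; omega) x hx θ₀ hθ₀
    set v : IrrCharacter G → ℤ := fun χ => if χ ∈ S.X then S.εX χ else -S.ε with hv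
    have hvX : ∀ χ ∈ S.X, v χ = S.εX χ := fun χ hχ => by simp [hv, hχ]
    have hvY : v θ₀ = -S.ε := by
      simp [hv, Finset.disjoint_right.1 S.disj hθ₀]
    set U := S.X ∪ S.Y with hU
    have hvs : ∀ χ ∈ U, v χ = 1 ∨ v χ = -1 := by
      intro χ hχ
      rcases Finset.mem_union.1 hχ with h | h
      · rw [hvX χ h]; exact S.hεX χ h
      · rw [hY, Finset.mem_singleton] at h
        rw [h, hvY]; rcases S.hε with e | e <;> rw [e] <;> decide
    have hval : ∀ χ ∈ U, ∀ y ∈ (P : Subgroup G), y ≠ 1 → χ.1 y = v χ := by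
      intro χ hχ y hy hy1
      rcases Finset.mem_union.1 hχ with h | h
      · rw [hvX χ h]; exact hSX χ h y hy hy1
      · rw [hY, Finset.mem_singleton] at h
        have := hsum y hy hy1
        rw [hY, Finset.sum_singleton] at this
        rw [h, hvY, this, Int.cast_neg]
    have hrel : ∀ g, IsPRegular p g → ∑ χ ∈ U, (v χ : ℂ) * χ.1 g = 0 := by
      intro g hg
      rw [hU, Finset.sum_union S.disj,
        Finset.sum_congr rfl (fun χ hχ => show (v χ : ℂ) * χ.1 g = (S.εX χ : ℂ) * χ.1 g by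
          rw [hvX χ hχ]), ← S.relation θ₀ hθ₀ g hg, hY, Finset.sum_singleton, hvY]
      push_cast; ring
    have hUcard : U.card = m + 1 := by
      rw [hU, Finset.card_union_of_disjoint S.disj, S.cardX, hY, Finset.card_singleton]
    have hvt : v (Char.trivialChar G) = 1 := by
      obtain ⟨y, hy, hy1⟩ : ∃ y ∈ (P : Subgroup G), y ≠ 1 := by
        haveI : Nontrivial (P : Subgroup G) :=
          Finite.one_lt_card_iff_nontrivial.1 (hp.out.one_lt.trans_le hP.ge)
        obtain ⟨y, hy⟩ := exists_ne (1 : (P : Subgroup G))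
        exact ⟨y, y.2, fun e => hy (Subtype.ext e)⟩
      have := hval _ htriv y hy hy1
      simp [Char.trivialChar] at this
      exact_mod_cast this.symm
    obtain ⟨θ', hθ', hθ'v⟩ : ∃ θ ∈ U.erase (Char.trivialChar G), v θ = 1 := by
      by_contra! hno
      have h1 := hrel 1 isPRegular_one
      rw [← Finset.add_sum_erase _ _ htriv, hvt,
        Finset.sum_congr rfl (fun χ hχ => show (v χ : ℂ) * χ.1 1 = -((charDegree χ.1 : ℕ) : ℂ) by
          rw [(hvs χ (Finset.mem_of_mem_erase hχ)).resolve_left (hno χ hχ), Char.charDegree_cast]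
          push_cast; ring),
        Finset.sum_neg_distrib, ← Char.charDegree_cast, charDegree_trivial, ← Nat.cast_sum] at h1
      have h2 : ∑ χ ∈ U.erase (Char.trivialChar G), charDegree χ.1 = 1 := by
        apply Nat.cast_injective (R := ℂ)
        push_cast at h1 ⊢
        linear_combination -h1
      obtain ⟨χ, hχ⟩ : (U.erase (Char.trivialChar G)).Nonempty := Finset.card_pos.1 (by
        rw [Finset.card_erase_of_mem htriv, hUcard]; omega)
      have h3 := Finset.single_le_sum (f := fun χ : IrrCharacter G => charDegree χ.1)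
        (fun _ _ => Nat.zero_le _) hχ
      have h4 := Char.charDegree_pos χ
      exact Finset.ne_of_mem_erase hχ (eq_trivialChar_of_perfect hperf (by omega))
    set R := (U.erase (Char.trivialChar G)).erase θ' with hR
    have hRU : ∀ χ ∈ R, χ ∈ U := fun χ hχ => Finset.mem_of_mem_erase (Finset.mem_of_mem_erase hχ)
    have hneg : ∀ χ ∈ R.filter (fun χ => ¬ v χ = 1), v χ = -1 := fun χ hχ =>
      (hvs χ (hRU χ (Finset.mem_filter.1 hχ).1)).resolve_left (Finset.mem_filter.1 hχ).2
    have hmod : ∀ χ ∈ U, (charDegree χ.1 : ℤ) ≡ v χ [ZMOD p] := fun χ hχ =>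
      DefectOne.degree_modEq_value hP fun y hy => hval χ hχ y y.2 fun e => hy (Subtype.ext e)
    refine ⟨⟨R.filter (fun χ => v χ = 1), R.filter (fun χ => ¬ v χ = 1), {θ'}, -1, Or.inr rfl,
      fun _ => rfl, ?_, ?_, htm, ?_, ?_, ?_, ?_, ?_, ?_, ?_, ?_, ?_, ?_, ?_, ?_, ?_⟩⟩
    · rw [Finset.card_filter_add_card_filter_not, hR, Finset.card_erase_of_mem hθ',
        Finset.card_erase_of_mem htriv, hUcard]
      omega
    · rw [Finset.card_singleton, ht1]
    · exact Finset.disjoint_filter_filter_not _ _ _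
    · exact Finset.disjoint_singleton_right.2 fun h =>
        Finset.ne_of_mem_erase (Finset.mem_filter.1 h).1 rfl
    · exact Finset.disjoint_singleton_right.2 fun h =>
        Finset.ne_of_mem_erase (Finset.mem_filter.1 h).1 rfl
    · intro χ hχ h1
      have : χ ∈ U.erase (Char.trivialChar G) := by
        rcases Finset.mem_union.1 hχ with h | h
        · rcases Finset.mem_union.1 h with h | h <;>
            exact Finset.mem_of_mem_erase (Finset.mem_filter.1 h).1
        · rw [Finset.mem_singleton.1 h]; exact hθ'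
      exact Finset.ne_of_mem_erase this (eq_trivialChar_of_perfect hperf h1)
    · intro χ hχ y hy hy1
      rw [hval χ (hRU χ (Finset.mem_filter.1 hχ).1) y hy hy1, (Finset.mem_filter.1 hχ).2, Int.cast_one]
    · intro χ hχ y hy hy1
      rw [hval χ (hRU χ (Finset.mem_filter.1 hχ).1) y hy hy1, hneg χ hχ]; simp
    · intro χ hχ y hy hy1 v hv hvr
      have hU' := hRU χ (Finset.mem_filter.1 hχ).1
      rw [hsec χ hU' y hy hy1 v hv hvr, hval χ hU' y hy hy1, hneg χ hχ]; simp
    · intro y hy hy1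
      rw [Finset.sum_singleton, hval θ' (Finset.mem_of_mem_erase hθ') y hy hy1, hθ'v]; simp
    · intro χ hχ
      have := hmod χ (hRU χ (Finset.mem_filter.1 hχ).1)
      rwa [(Finset.mem_filter.1 hχ).2] at this
    · intro χ hχ
      have := hmod χ (hRU χ (Finset.mem_filter.1 hχ).1)
      rwa [hneg χ hχ] at this
    · intro χ hχ
      rw [Finset.mem_singleton.1 hχ]
      refine (hmod θ' (Finset.mem_of_mem_erase hθ')).trans ?_
      rw [hθ'v, Int.modEq_iff_dvd]
      have : ((m : ℕ) : ℤ) + 1 = p := by rw [ht1, one_mul] at htm; exact_mod_cast htm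
      exact ⟨-1, by linarith⟩
    · intro a ha b hb g _
      rw [Finset.mem_singleton.1 ha, Finset.mem_singleton.1 hb]
    · intro χ hχ g hg
      rw [Finset.mem_singleton.1 hχ]
      have := hrel g hg
      rw [← Finset.add_sum_erase _ _ htriv, ← Finset.add_sum_erase _ _ hθ', ← hR,
        ← Finset.sum_filter_add_sum_filter_not R (fun χ => v χ = 1),
        Finset.sum_congr rfl (fun χ hχ => show (v χ : ℂ) * χ.1 g = χ.1 g by
          rw [(Finset.mem_filter.1 hχ).2]; simp),
        Finset.sum_congr rfl (fun χ hχ => show (v χ : ℂ) * χ.1 g = -χ.1 g by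
          rw [hneg χ hχ]; simp),
        Finset.sum_neg_distrib, hvt, hθ'v] at this
      simp [Char.trivialChar] at this
      push_cast
      linear_combination -this
  · -- the trivial character is not exceptional
    have htX : Char.trivialChar G ∈ S.X := by
      rcases Finset.mem_union.1 htriv with h | h
      · exact h
      · exfalso
        obtain ⟨θ, hθ, hne⟩ := Finset.exists_mem_ne (by rw [S.cardY]; omega)
          (Char.trivialChar G)
        refine hne (eq_trivialChar_of_perfect hperf ?_)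
        apply Nat.cast_injective (R := ℂ)
        rw [Char.charDegree_cast, S.agree θ hθ _ h 1 isPRegular_one, ← Char.charDegree_cast,
          charDegree_trivial]
    have htv : S.εX (Char.trivialChar G) = 1 := by
      obtain ⟨y, hy, hy1⟩ : ∃ y ∈ (P : Subgroup G), y ≠ 1 := by
        haveI : Nontrivial (P : Subgroup G) :=
          Finite.one_lt_card_iff_nontrivial.1 (hp.out.one_lt.trans_le hP.ge)
        obtain ⟨y, hy⟩ := exists_ne (1 : (P : Subgroup G))
        exact ⟨y, y.2, fun e => hy (Subtype.ext e)⟩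
      have := hSX _ htX y hy hy1
      simp [Char.trivialChar] at this
      exact_mod_cast this.symm
    set R := S.X.erase (Char.trivialChar G) with hR
    have hneg : ∀ χ ∈ R.filter (fun χ => ¬ S.εX χ = 1), S.εX χ = -1 := fun χ hχ =>
      (S.hεX χ (Finset.mem_of_mem_erase (Finset.mem_filter.1 hχ).1)).resolve_left
        (Finset.mem_filter.1 hχ).2
    have hRX : ∀ χ ∈ R, χ ∈ S.X := fun χ hχ => Finset.mem_of_mem_erase hχ
    refine ⟨⟨R.filter (fun χ => S.εX χ = 1), R.filter (fun χ => ¬ S.εX χ = 1), S.Y, S.ε, S.hε,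
      fun h => absurd h (by omega), ?_, S.cardY, htm, ?_, ?_, ?_, ?_, ?_, ?_, ?_, hsum, ?_, ?_,
      S.Y_deg, S.agree, ?_⟩⟩
    · rw [Finset.card_filter_add_card_filter_not, hR, Finset.card_erase_of_mem htX, S.cardX]
      omega
    · exact Finset.disjoint_filter_filter_not _ _ _
    · exact Finset.disjoint_of_subset_left ((Finset.filter_subset _ _).trans (Finset.erase_subset _ _))
        S.disj
    · exact Finset.disjoint_of_subset_left ((Finset.filter_subset _ _).trans (Finset.erase_subset _ _))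
        S.disj
    · intro χ hχ h1
      have he := eq_trivialChar_of_perfect hperf h1
      rcases Finset.mem_union.1 hχ with h | h
      · rcases Finset.mem_union.1 h with h | h <;>
          exact Finset.ne_of_mem_erase (Finset.mem_filter.1 h).1 he
      · exact Finset.disjoint_left.1 S.disj htX (he ▸ h)
    · intro χ hχ y hy hy1
      rw [hSX χ (hRX χ (Finset.mem_filter.1 hχ).1) y hy hy1, (Finset.mem_filter.1 hχ).2, Int.cast_one]
    · intro χ hχ y hy hy1
      rw [hSX χ (hRX χ (Finset.mem_filter.1 hχ).1) y hy hy1, hneg χ hχ]; simp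
    · intro χ hχ y hy hy1 v hv hvr
      have hX' := hRX χ (Finset.mem_filter.1 hχ).1
      rw [hsec χ (Finset.mem_union_left _ hX') y hy hy1 v hv hvr, hSX χ hX' y hy hy1, hneg χ hχ]
      simp
    · intro χ hχ
      have := S.X_deg χ (hRX χ (Finset.mem_filter.1 hχ).1)
      rwa [(Finset.mem_filter.1 hχ).2] at this
    · intro χ hχ
      have := S.X_deg χ (hRX χ (Finset.mem_filter.1 hχ).1)
      rwa [hneg χ hχ] at this
    · intro θ hθ g hg
      rw [S.relation θ hθ g hg, ← Finset.add_sum_erase _ _ htX, htv, ← hR,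
        ← Finset.sum_filter_add_sum_filter_not R (fun χ => S.εX χ = 1),
        Finset.sum_congr rfl (fun χ hχ => show (S.εX χ : ℂ) * χ.1 g = χ.1 g by
          rw [(Finset.mem_filter.1 hχ).2]; simp),
        Finset.sum_congr rfl (fun χ hχ => show (S.εX χ : ℂ) * χ.1 g = -χ.1 g by
          rw [hneg χ hχ]; simp),
        Finset.sum_neg_distrib]
      simp [Char.trivialChar, sub_eq_add_neg, add_assoc]

theorem nat_modEq_one {p a : ℕ} (hp : p.Prime) (h : (a : ℤ) ≡ 1 [ZMOD p]) :
    ∃ u, a = u * p + 1 := by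
  have h2 : a % p = 1 := by
    have : ((a % p : ℕ) : ℤ) = 1 := by
      rw [Int.natCast_emod, h, Int.emod_eq_of_lt zero_le_one (by exact_mod_cast hp.one_lt)]
    exact_mod_cast this
  exact ⟨a / p, by have := Nat.div_add_mod a p; rw [h2] at this; rw [mul_comm]; omega⟩

theorem nat_modEq_neg_one {p a : ℕ} (h : (a : ℤ) ≡ -1 [ZMOD p]) : ∃ u, a + 1 = u * p := by
  obtain ⟨k, hk⟩ : (p : ℤ) ∣ (a : ℤ) + 1 := by
    have := h.symm.dvd
    rwa [sub_neg_eq_add] at this
  have : p ∣ a + 1 := Int.natCast_dvd_natCast.1 ⟨k, by push_cast; exact hk⟩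
  obtain ⟨u, hu⟩ := this
  exact ⟨u, by rw [hu, mul_comm]⟩

/-- A multiple `1 + n₀ p` of `1 + n p` dividing `s (1 + n p)` with `s < p` is equal to it. -/
theorem eq_of_dvd_mul {p n n₀ s : ℕ} (hp : p.Prime) (h : 1 + n * p ∣ 1 + n₀ * p) (hs : 0 < s)
    (hsp : s < p) (h2 : 1 + n₀ * p ∣ s * (1 + n * p)) : n₀ = n := by
  obtain ⟨k, hk⟩ := h
  have hk1 : k % p = 1 := by
    have := congrArg (· % p) hk
    simp [Nat.mul_mod, Nat.add_mod, Nat.mod_eq_of_lt hp.one_lt] at this
    exact this.symm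
  have h3 : k ∣ s := by
    rw [hk, mul_comm s] at h2
    exact Nat.dvd_of_mul_dvd_mul_left (by omega) h2
  have h4 := Nat.le_of_dvd hs h3
  have h5 : k = 1 := by rw [Nat.mod_eq_of_lt (by omega)] at hk1; exact hk1
  rw [h5, mul_one] at hk
  exact Nat.eq_of_mul_eq_mul_right hp.pos (by omega)

/-- The degrees. -/
theorem main_degrees (hperf : commutator G = ⊤) (hpM : (p : AlgInt) ∈ M) (hP : Nat.card P = p)
    {m : ℕ} (hm : (Subgroup.centralizer ((P : Subgroup G) : Set G)).relIndex
      (Subgroup.normalizer ((P : Subgroup G) : Set G)) = m) (hm2 : 2 ≤ m)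
    {n n₀ : ℕ} (hn : Nat.card (Sylow p G) = 1 + n * p) (hdvd : 1 + n * p ∣ 1 + n₀ * p)
    (hF : NonF p n₀) :
    n₀ = n ∧ 1 ≤ n ∧ ∃ (t : ℕ) (D : BData P m t), 0 < t ∧ D.Neg.Nonempty ∧
      (∀ χ ∈ D.Pos, charDegree χ.1 = 1 + n * p) ∧ (∀ χ ∈ D.Neg, charDegree χ.1 + 1 = p) ∧
      ((D.ε = 1 ∧ 2 ≤ t ∧ ∀ θ ∈ D.Θ, charDegree θ.1 = m) ∨
       (D.ε = -1 ∧ ∀ θ ∈ D.Θ, t * charDegree θ.1 = 1 + n * p)) := by
  obtain ⟨t, ht, ⟨D⟩⟩ := exists_bdata (P := P) hperf hpM hP hm
  have htm := D.htm
  have hmp : m < p := by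
    have : m ≤ t * m := Nat.le_mul_of_pos_left m ht
    omega
  obtain ⟨y, hy, hy1⟩ : ∃ y ∈ (P : Subgroup G), y ≠ 1 := by
    haveI : Nontrivial (P : Subgroup G) :=
      Finite.one_lt_card_iff_nontrivial.1 (hp.out.one_lt.trans_le hP.ge)
    obtain ⟨y, hy⟩ := exists_ne (1 : (P : Subgroup G))
    exact ⟨y, y.2, fun e => hy (Subtype.ext e)⟩
  have hclass := card_class hP hm hy hy1
  rw [hn] at hclass
  have hone : ∀ χ ∈ D.Pos ∪ D.Neg, charDegree χ.1 ∣ m * (1 + n * p) := by
    intro χ hχ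
    rw [← hclass]
    rcases Finset.mem_union.1 hχ with h | h
    · exact dvd_card_class {χ} (Char.charDegree_pos χ) (by simp) y (a := 1) (Or.inl rfl)
        (by simp [D.pos_val χ h y hy hy1])
    · exact dvd_card_class {χ} (Char.charDegree_pos χ) (by simp) y (a := -1) (Or.inr rfl)
        (by simp [D.neg_val χ h y hy hy1])
  have hm0 : m * (1 + n * p) ∣ m * (1 + n₀ * p) := mul_dvd_mul_left m hdvd
  have hposdeg : ∀ χ ∈ D.Pos, charDegree χ.1 = 1 + n₀ * p := by
    intro χ hχ
    obtain ⟨v, hv⟩ := (hone χ (Finset.mem_union_left _ hχ)).trans hm0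
    exact (eq_of_one_modEq htm (by omega) ht hF hv.symm
      (nat_modEq_one hp.out (D.pos_mod χ hχ))).resolve_left
      (D.nontriv χ (Finset.mem_union_left _ (Finset.mem_union_left _ hχ)))
  obtain ⟨θ₀, hθ₀⟩ : D.Θ.Nonempty := Finset.card_pos.1 (by rw [D.cardΘ]; exact ht)
  set b := charDegree θ₀.1 with hb
  have hΘdeg : ∀ θ ∈ D.Θ, charDegree θ.1 = b := fun θ hθ => by
    apply Nat.cast_injective (R := ℂ)
    rw [hb, Char.charDegree_cast, Char.charDegree_cast, D.agree θ hθ θ₀ hθ₀ 1 isPRegular_one]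
  have hbdvd : b ∣ m * (1 + n * p) := by
    rw [← hclass]
    refine dvd_card_class D.Θ (Char.charDegree_pos θ₀) hΘdeg y (a := -D.ε) ?_ ?_
    · rcases D.hε with h | h <;> rw [h] <;> decide
    · rw [D.sum_val y hy hy1]; push_cast; ring
  obtain ⟨v, hv⟩ := hbdvd.trans hm0
  have hrel : D.ε * (b : ℤ) =
      1 + (D.Pos.card : ℤ) * (1 + n₀ * p : ℕ) - ∑ χ ∈ D.Neg, (charDegree χ.1 : ℤ) := by
    apply Int.cast_injective (α := ℂ)
    have h := D.relation θ₀ hθ₀ 1 isPRegular_one
    rw [Finset.sum_congr rfl (fun χ hχ => show χ.1 1 = ((1 + n₀ * p : ℕ) : ℂ) by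
      rw [← Char.charDegree_cast, hposdeg χ hχ]), Finset.sum_const, nsmul_eq_mul] at h
    push_cast at h ⊢
    rw [show (b : ℂ) = θ₀.1 1 from Char.charDegree_cast θ₀]
    simp only [Char.charDegree_cast]
    exact h
  have hb1 : b ≠ 1 := D.nontriv θ₀ (Finset.mem_union_right _ hθ₀)
  set N₀ := 1 + n₀ * p with hN₀
  set x := D.Pos.card with hx
  have hcard := D.card_sum
  rcases D.hε with hε | hε
  · -- exceptional degree `m`
    have ht2 : 2 ≤ t := by
      by_contra h
      have := D.one (by omega)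
      rw [hε] at this
      norm_num at this
    have hnegdeg : ∀ χ ∈ D.Neg, charDegree χ.1 + 1 = p := by
      intro χ hχ
      obtain ⟨w, hw⟩ := (hone χ (Finset.mem_union_right _ hχ)).trans hm0
      exact (eq_of_neg_one_modEq htm (by omega) ht hF hw.symm
        (nat_modEq_neg_one (D.neg_mod χ hχ))).resolve_right fun h => absurd h.1 (by omega)
    have hmodb : (b : ℤ) ≡ (m : ℤ) [ZMOD p] := by
      have := D.theta_mod θ₀ hθ₀
      rwa [hε, one_mul] at this
    have hnn : 0 ≤ ∑ χ ∈ D.Neg, (charDegree χ.1 : ℤ) :=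
      Finset.sum_nonneg fun χ _ => Int.natCast_nonneg _
    rw [hε, one_mul] at hrel
    have hbm : b = m := by
      rcases eq_of_one_modEq htm (by omega) ht hF (show v * b = m * N₀ by rw [mul_comm, ← hv])
        (exists_one_modEq hp.out hmp (by omega) hv.symm hmodb) with h | h
      · rw [h, mul_one] at hv
        have h2 : (m : ℤ) * N₀ ≤ 1 + ((m : ℤ) - 1) * N₀ := by
          calc (m : ℤ) * N₀ = (b : ℤ) := by rw [← hv]; push_cast; ring
            _ ≤ 1 + (x : ℤ) * N₀ := by linarith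
            _ ≤ _ := by
              have : (x : ℤ) ≤ (m : ℤ) - 1 := by omega
              nlinarith [Int.natCast_nonneg N₀]
        have h3 : N₀ = 1 := by
          have : (N₀ : ℤ) ≤ 1 := by linarith
          omega
        rw [← hv, h3, mul_one]
      · rw [h] at hv
        exact Nat.eq_of_mul_eq_mul_right (by omega) hv.symm
    have hxpos : 0 < x := by
      by_contra h0
      have hx0 : x = 0 := by omega
      rw [hbm, hx0] at hrel
      push_cast at hrel
      omega
    obtain ⟨χ, hχ⟩ := Finset.card_pos.1 hxpos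
    have hnn₀ : n₀ = n := eq_of_dvd_mul hp.out hdvd (by omega) hmp (by
      have := hone χ (Finset.mem_union_left _ hχ)
      rwa [hposdeg χ hχ] at this)
    have hn1 : 1 ≤ n := by
      by_contra h0
      have := hposdeg χ hχ
      rw [hN₀, hnn₀, show n = 0 by omega] at this
      exact D.nontriv χ (Finset.mem_union_left _ (Finset.mem_union_left _ hχ)) (by simpa using this)
    refine ⟨hnn₀, hn1, t, D, ht, ?_, fun χ hχ => by rw [hposdeg χ hχ, hN₀, hnn₀], hnegdeg,
      Or.inl ⟨hε, ht2, fun θ hθ => (hΘdeg θ hθ).trans hbm⟩⟩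
    rw [Finset.nonempty_iff_ne_empty]
    intro h0
    rw [hbm, h0, Finset.sum_empty, sub_zero] at hrel
    rw [h0, Finset.card_empty] at hcard
    have : ((m : ℤ) - 1) * ((N₀ : ℤ) - 1) = 0 := by
      have : (x : ℤ) = (m : ℤ) - 1 := by omega
      rw [this] at hrel; linarith
    have h2 : (1 : ℤ) < N₀ := by
      have : 1 ≤ n₀ * p := Nat.mul_pos (by omega) hp.out.pos
      omega
    rcases mul_eq_zero.1 this with h | h <;> omega
  · -- exceptional degree `(1 + n p) / t`
    have hmodb : (b : ℤ) ≡ -(m : ℤ) [ZMOD p] := by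
      have := D.theta_mod θ₀ hθ₀
      rwa [hε, neg_one_mul] at this
    have htb : t * b = N₀ := by
      rcases eq_of_neg_one_modEq htm (by omega) ht hF (show v * b = m * N₀ by rw [mul_comm, ← hv])
        (exists_neg_one_modEq hp.out hmp (by omega) hv.symm hmodb) with h | ⟨-, h⟩
      · have h2 : v = t * m := by omega
        rw [h2] at hv
        refine Nat.eq_of_mul_eq_mul_left (by omega : 0 < m) ?_
        rw [hv]; ring
      · exfalso
        rw [h] at hv
        refine hb1 (Nat.eq_of_mul_eq_mul_right (Nat.mul_pos (show 0 < m by omega) (show 0 < N₀ by omega)) ?_)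
        rw [← hv, one_mul]
    have hnn₀ : n₀ = n := eq_of_dvd_mul hp.out hdvd (Nat.mul_pos ht (by omega : 0 < m)) (by omega) (by
      rw [← hN₀, ← htb, mul_assoc]
      exact mul_dvd_mul_left t hbdvd)
    have hn1 : 1 ≤ n := by
      by_contra h0
      rw [hN₀, hnn₀, show n = 0 by omega] at htb
      exact hb1 (Nat.eq_one_of_mul_eq_one_left (by simpa using htb))
    have hNbig : 2 ≤ N₀ := by
      have : 1 ≤ n₀ * p := Nat.mul_pos (by omega) hp.out.pos
      omega
    rw [hε, neg_one_mul] at hrel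
    have hnegdeg : ∀ χ ∈ D.Neg, charDegree χ.1 + 1 = p := by
      intro χ hχ
      obtain ⟨w, hw⟩ := (hone χ (Finset.mem_union_right _ hχ)).trans hm0
      rcases eq_of_neg_one_modEq htm (by omega) ht hF hw.symm
        (nat_modEq_neg_one (D.neg_mod χ hχ)) with h | ⟨h1, h2⟩
      · exact h
      · exfalso
        rw [← hN₀] at h2
        have h3 : (charDegree χ.1 : ℤ) ≤ ∑ χ ∈ D.Neg, (charDegree χ.1 : ℤ) :=
          Finset.single_le_sum (f := fun χ : IrrCharacter G => (charDegree χ.1 : ℤ))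
            (fun _ _ => Int.natCast_nonneg _) hχ
        rw [h1, one_mul] at htb
        have h4 : (charDegree χ.1 : ℤ) = (m : ℤ) * N₀ := by rw [h2]; push_cast; ring
        have h5 : (x : ℤ) + 2 ≤ m := by
          have : 0 < D.Neg.card := Finset.card_pos.2 ⟨χ, hχ⟩
          omega
        have h6 : (b : ℤ) = N₀ := by exact_mod_cast htb
        have h8 : ((x : ℤ) + 2) * N₀ ≤ m * N₀ :=
          mul_le_mul_of_nonneg_right h5 (Int.natCast_nonneg _)
        have h9 : (2 : ℤ) ≤ N₀ := by exact_mod_cast hNbig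
        linarith
    refine ⟨hnn₀, hn1, t, D, ht, ?_, fun χ hχ => by rw [hposdeg χ hχ, hN₀, hnn₀], hnegdeg,
      Or.inr ⟨hε, fun θ hθ => by rw [hΘdeg θ hθ, htb, hN₀, hnn₀]⟩⟩
    rw [Finset.nonempty_iff_ne_empty]
    intro h0
    rw [h0, Finset.sum_empty, sub_zero] at hrel
    have : 0 ≤ (x : ℤ) * N₀ := by positivity
    omega

end Cfsg.Agent.BrauerPSL
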