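import Cfsg.Agent.Lib.BrauerPSL.Induced

/-!
# Exceptional degree `q`: only `n = 1`, `t = 2`

The product of an exceptional character with its conjugate contains every character of degree
`1 + n p` of the block.
-/

set_option autoImplicit false
set_option linter.style.haveILetI false
set_option linter.unusedSectionVars false

namespace Cfsg.Agent.BrauerPSL

open Cfsg Cfsg.Agent
open scoped ComplexConjugate Classical

universe u

variable {G : Type u} [Group G] [Fintype G] {p : ℕ} [hp : Fact p.Prime] {P : Sylow p G}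

namespace Setup

variable {n t : ℕ} (S : Setup P n t)
include S

theorem case_pos (hε : S.D.ε = 1) : n = 1 ∧ t = 2 := by
  obtain ⟨ht2, hdeg⟩ : 2 ≤ t ∧ ∀ θ ∈ S.D.Θ, charDegree θ.1 = qIdx P := by
    rcases S.theta with h | h
    · exact h.2
    · rw [hε] at h; exact absurd h.1 (by decide)
  set q := qIdx P with hq
  obtain ⟨θ₀, hθ₀⟩ : S.D.Θ.Nonempty := Finset.card_pos.1 (by rw [S.D.cardΘ]; exact S.t_pos)
  -- the exceptional characters have no constituent trivial on `P`
  have hθsum : ∑ θ ∈ S.D.Θ, avg P θ.1 1 = 0 := by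
    rw [S.sum_avg_theta hθ₀, hdeg θ₀ hθ₀, hε, Int.cast_one, mul_one,
      show (t : ℂ) * q - ((p : ℂ) - 1) = 0 by linear_combination S.htq, mul_zero]
  choose mθ hmθ using fun (θ : IrrCharacter G) l => exists_nat_mult (P := P) (Char.irr_isCharacter θ) l
  have hθ0 : ∀ θ ∈ S.D.Θ, ∀ l, mult P θ.1 l = 0 := by
    intro θ hθ l
    have h1 : ∑ θ ∈ S.D.Θ, ∑ l, mθ θ l = 0 := by
      apply Nat.cast_injective (R := ℂ)
      push_cast
      rw [← hθsum]
      refine Finset.sum_congr rfl fun θ _ => ?_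
      rw [← S.sc.sum_mult θ.1]
      exact Finset.sum_congr rfl fun l _ => (hmθ θ l).symm
    rw [hmθ, Finset.sum_eq_zero_iff.1 (Finset.sum_eq_zero_iff.1 h1 θ hθ) l (Finset.mem_univ _),
      Nat.cast_zero]
  have hE : ∀ l, (if Char.trivialChar (Q P) = l then (1 : ℂ) else 0) +
      ∑ χ ∈ S.D.Pos, mult P χ.1 l = 1 := by
    intro l
    have h := S.mult_eq l
    rw [Finset.sum_eq_zero (fun θ hθ => hθ0 θ hθ l), mul_zero, sub_zero] at h
    exact (mul_eq_left₀ S.tpos').1 h
  choose mP hmP using fun (χ : IrrCharacter G) l => exists_nat_mult (P := P) (Char.irr_isCharacter χ) l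
  -- induced linear characters are block members
  have hind : ∀ χ ∈ S.D.Pos, ∃ l, ∀ g, ind P l g = χ.1 g := by
    intro χ hχ
    obtain ⟨l, hl⟩ : ∃ l, mP χ l ≠ 0 := by
      by_contra! h0
      have := S.sc.sum_mult χ.1
      simp only [hmP, h0, Nat.cast_zero, Finset.sum_const_zero, S.avg_pos hχ] at this
      have : n + 1 = 0 := by exact_mod_cast this.symm
      omega
    have hlne : Char.trivialChar (Q P) ≠ l := by
      intro e
      have h := hE l
      simp only [if_pos e, add_eq_left, hmP, ← Nat.cast_sum, Nat.cast_eq_zero] at h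
      exact hl (Finset.sum_eq_zero_iff.1 h χ hχ)
    have h := hE l
    simp only [if_neg hlne, zero_add, hmP, ← Nat.cast_sum, Nat.cast_eq_one] at h
    have h1 : mP χ l = 1 := by
      have := Finset.single_le_sum (f := fun χ => mP χ l) (fun _ _ => Nat.zero_le _) hχ
      omega
    refine ⟨l, fun g => ?_⟩
    rw [eq_sum_of_degree (isCharacter_ind l) {χ} (fun _ => 1) (fun ψ hψ => by
        rw [Finset.mem_singleton.1 hψ, classInner_ind (Char.irr_isCharacter χ), hmP, h1, Nat.cast_one])
        (by rw [Finset.sum_singleton, one_mul, S.ind_one, ← Char.charDegree_cast, S.pos_deg χ hχ]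
            push_cast; ring) g, Finset.sum_singleton, one_mul]
  -- the product with the conjugate
  set Φ : G → ℂ := θ₀.1 * fun g => conj (θ₀.1 g) with hΦ
  have hΦc : IsCharacter G Φ :=
    Char.IsCharacter.mul (Char.irr_isCharacter θ₀) (Char.IsCharacter.conj (Char.irr_isCharacter θ₀))
  have hθv : ∀ g : NP P, (g : G) ∉ (P : Subgroup G) → θ₀.1 g = 0 := fun g hg => by
    rw [S.sc.apply_eq_sum (Char.IsCharacter.isClassFunction (Char.irr_isCharacter θ₀)) g hg]
    simp [hθ0 θ₀ hθ₀]
  have hΦne : ∀ l, mult P Φ l ≠ 0 := by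
    intro l hl
    rw [S.sc.mult_eq_of_vanish (fun g hg => by simp [hΦ, hθv g hg]) l (Char.trivialChar (Q P))] at hl
    have h2 : classInner (fun g : NP P => θ₀.1 g) (fun g : NP P => θ₀.1 g) = 0 := by
      rw [← hl, mult, classInner, classInner]
      congr 1
      exact Finset.sum_congr rfl fun g _ => by simp [hΦ, lam_trivial]
    have h3 := congrFun (Char.classInner_self_eq_zero h2) 1
    exact Char.IsIrrCharacter.apply_one_ne_zero θ₀.2 h3
  have htrivne : classInner Φ (Char.trivialChar G).1 ≠ 0 := by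
    have h1 : classInner Φ (Char.trivialChar G).1 = classInner θ₀.1 θ₀.1 := by
      simp [classInner, hΦ, Char.trivialChar]
    rw [h1, Char.classInner_irr_self θ₀.2]
    exact one_ne_zero
  have htrivnot : Char.trivialChar G ∉ S.D.Pos := fun h =>
    S.D.nontriv _ (Finset.mem_union_left _ (Finset.mem_union_left _ h)) charDegree_trivial
  have hle := sum_degree_le hΦc (insert (Char.trivialChar G) S.D.Pos) (d := q ^ 2) (by
    intro χ hχ
    rcases Finset.mem_insert.1 hχ with rfl | hχ
    · exact htrivne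
    · obtain ⟨l, hl⟩ := hind χ hχ
      rw [show χ.1 = ind P l from (funext hl).symm, ← Char.conj_classInner,
        classInner_ind hΦc, map_ne_zero]
      exact hΦne l) (by
    simp only [hΦ, Pi.mul_apply, ← Char.charDegree_cast, map_natCast, hdeg θ₀ hθ₀]
    push_cast; ring)
  rw [Finset.sum_insert htrivnot, charDegree_trivial, Finset.sum_congr rfl S.pos_deg,
    Finset.sum_const, smul_eq_mul] at hle
  -- the degree relation
  have hrel := S.D.relation θ₀ hθ₀ 1 isPRegular_one
  have hneg : ∀ χ ∈ S.D.Neg, χ.1 1 = (p : ℂ) - 1 := fun χ hχ => by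
    rw [← Char.charDegree_cast]
    have h : ((charDegree χ.1 : ℕ) : ℂ) + 1 = p := by exact_mod_cast S.neg_deg χ hχ
    linear_combination h
  have hpos : ∀ χ ∈ S.D.Pos, χ.1 1 = ((1 + n * p : ℕ) : ℂ) := fun χ hχ => by
    rw [← Char.charDegree_cast, S.pos_deg χ hχ]
  rw [hε, Finset.sum_congr rfl hpos, Finset.sum_congr rfl hneg, ← Char.charDegree_cast,
    hdeg θ₀ hθ₀, Finset.sum_const, Finset.sum_const, nsmul_eq_mul, nsmul_eq_mul] at hrel
  set x := S.D.Pos.card with hx
  have hrelZ : (q : ℤ) = 1 + x * (1 + n * p) - S.D.Neg.card * ((p : ℤ) - 1) := by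
    apply Int.cast_injective (α := ℂ)
    push_cast at hrel ⊢
    linear_combination hrel
  have hcard : (x : ℤ) + S.D.Neg.card + 1 = q := by exact_mod_cast S.D.card_sum
  have hp0 : (p : ℤ) ≠ 0 := by exact_mod_cast hp.out.ne_zero
  have hxq : (x : ℤ) * (n + 1) = q - 1 := by
    refine mul_left_cancel₀ hp0 ?_
    linear_combination -hrelZ + ((p : ℤ) - 1) * hcard
  have hle' : (1 : ℤ) + x * (1 + n * p) ≤ (q : ℤ) ^ 2 := by exact_mod_cast hle
  have htq' : (t : ℤ) * q + 1 = p := by exact_mod_cast S.D.htm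
  have hq1 : 1 < (q : ℤ) := by
    by_contra h
    have h1 : (q : ℤ) = 1 := by
      have : 0 < q := qIdx_pos P
      omega
    have := S.D.nontriv θ₀ (Finset.mem_union_right _ hθ₀)
    rw [hdeg θ₀ hθ₀] at this
    exact this (by exact_mod_cast h1)
  have hxpos : (0 : ℤ) < x := by
    by_contra h
    have : (x : ℤ) = 0 := by omega
    rw [this, zero_mul] at hxq
    omega
  have h1 : (x : ℤ) * (1 + n * p) ≤ x * ((n + 1) * (q + 1)) := by
    calc (x : ℤ) * (1 + n * p) ≤ (q : ℤ) ^ 2 - 1 := by linarith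
      _ = ((q : ℤ) - 1) * (q + 1) := by ring
      _ = _ := by rw [← hxq]; ring
  have h2 : (1 : ℤ) + n * p ≤ (n + 1) * (q + 1) := le_of_mul_le_mul_left h1 hxpos
  have h3 : (n : ℤ) * ((t : ℤ) - 1) ≤ 1 := by
    have : (n : ℤ) * ((t : ℤ) - 1) * q ≤ 1 * q := by rw [← htq'] at h2; linarith
    exact le_of_mul_le_mul_right this (by omega)
  have hn1 : (1 : ℤ) ≤ n := by exact_mod_cast S.one_le
  have ht2' : (1 : ℤ) ≤ (t : ℤ) - 1 := by omega
  have h4 : (n : ℤ) ≤ 1 := le_trans (le_mul_of_one_le_right (by omega) ht2') h3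
  have h5 : n = 1 := by omega
  refine ⟨h5, ?_⟩
  rw [h5] at h3
  push_cast at h3
  omega

end Setup

end Cfsg.Agent.BrauerPSL
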