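import Cfsg.Agent.Lib.BrauerPSL.Induced

/-!
# Exceptional degree `(1 + n p) / t`: the induced linear characters

`ind P l` for a nontrivial `l` is a positive character or the sum of the exceptional ones;
elements outside `P` of the normalizer fix `n + 1` Sylow subgroups, and a fixed-point-free
`p`-regular element has a centraliser of order dividing the exceptional degree.
-/

set_option autoImplicit false
set_option linter.style.haveILetI false
set_option linter.unusedSectionVars false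

namespace Cfsg.Agent.BrauerPSL

open Cfsg Cfsg.Agent
open scoped ComplexConjugate Classical

universe u

variable {G : Type u} [Group G] [Fintype G] {p : ℕ} [hp : Fact p.Prime] {P : Sylow p G}

namespace Setup

variable {n t : ℕ} (S : Setup P n t) (hε : S.D.ε = -1)
include S hε

theorem theta_deg {θ : IrrCharacter G} (hθ : θ ∈ S.D.Θ) : t * charDegree θ.1 = 1 + n * p := by
  rcases S.theta with h | h
  · rw [hε] at h; exact absurd h.1 (by decide)
  · exact h.2 θ hθ

theorem mult_theta_eq {θ θ' : IrrCharacter G} (hθ : θ ∈ S.D.Θ) (hθ' : θ' ∈ S.D.Θ)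
    (l : IrrCharacter (Q P)) : mult P θ.1 l = mult P θ'.1 l := by
  have hzero : ∀ θ ∈ S.D.Θ, mult P θ.1 (Char.trivialChar (Q P)) = 0 := by
    intro θ hθ
    choose mP hmP using fun (χ : IrrCharacter G) l => exists_nat_mult (P := P) (Char.irr_isCharacter χ) l
    have h := S.mult_eq (Char.trivialChar (Q P))
    simp only [if_true, hε, hmP, ← Nat.cast_sum] at h
    push_cast at h
    have h2 : t * ∑ χ ∈ S.D.Pos, mP χ (Char.trivialChar (Q P)) +
        ∑ θ ∈ S.D.Θ, mP θ (Char.trivialChar (Q P)) = 0 := by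
      apply Nat.cast_injective (R := ℂ)
      push_cast
      linear_combination h
    rw [hmP, Finset.sum_eq_zero_iff.1 (Nat.add_eq_zero_iff.1 h2).2 θ hθ, Nat.cast_zero]
  have hsub : ∀ l, mult P (θ.1 + (-1 : ℂ) • θ'.1) l = mult P θ.1 l - mult P θ'.1 l := fun l => by
    rw [mult_add, mult_smul]; ring
  have h := S.sc.mult_eq_of_vanish (χ := θ.1 + (-1 : ℂ) • θ'.1) (fun g hg => by
    simp [S.D.agree θ hθ θ' hθ' g (S.sc.isPRegular g.2 hg)]) l (Char.trivialChar (Q P))
  rw [hsub, hsub, hzero θ hθ, hzero θ' hθ', sub_zero] at h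
  exact sub_eq_zero.1 h

variable {θ₀ : IrrCharacter G} (hθ₀ : θ₀ ∈ S.D.Θ)
include hθ₀

theorem master (l : IrrCharacter (Q P)) :
    (if Char.trivialChar (Q P) = l then (1 : ℂ) else 0) + ∑ χ ∈ S.D.Pos, mult P χ.1 l +
      mult P θ₀.1 l = 1 := by
  have h := S.mult_eq l
  rw [hε, Finset.sum_congr (s₁ := S.D.Θ) rfl (fun θ hθ => S.mult_theta_eq hε hθ hθ₀ l),
    Finset.sum_const, S.D.cardΘ, nsmul_eq_mul] at h
  push_cast at h
  exact mul_left_cancel₀ S.tpos' (by linear_combination h)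

theorem master_triv :
    (∀ χ ∈ S.D.Pos, mult P χ.1 (Char.trivialChar (Q P)) = 0) ∧
      mult P θ₀.1 (Char.trivialChar (Q P)) = 0 := by
  choose mP hmP using fun (χ : IrrCharacter G) l => exists_nat_mult (P := P) (Char.irr_isCharacter χ) l
  have h := S.master hε hθ₀ (Char.trivialChar (Q P))
  simp only [if_true, hmP, add_assoc, add_eq_left, ← Nat.cast_sum, ← Nat.cast_add, Nat.cast_eq_zero,
    Nat.add_eq_zero_iff] at h
  exact ⟨fun χ hχ => by rw [hmP, Finset.sum_eq_zero_iff.1 h.1 χ hχ, Nat.cast_zero],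
    by rw [hmP, h.2, Nat.cast_zero]⟩

theorem avg_theta : (t : ℂ) * avg P θ₀.1 1 = (n : ℂ) + 1 := by
  have h := S.sum_avg_theta hθ₀
  rw [Finset.sum_congr (s₁ := S.D.Θ) rfl (fun θ hθ => show avg P θ.1 1 = avg P θ₀.1 1 by
      rw [← S.sc.sum_mult, ← S.sc.sum_mult]
      exact Finset.sum_congr rfl fun l _ => S.mult_theta_eq hε hθ hθ₀ l),
    Finset.sum_const, S.D.cardΘ, nsmul_eq_mul, hε] at h
  have hd : (t : ℂ) * (charDegree θ₀.1 : ℕ) = 1 + (n : ℂ) * p := by
    exact_mod_cast S.theta_deg hε hθ₀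
  rw [h]
  push_cast
  rw [hd]
  field_simp [S.hpne]
  ring

/-- `ind P l` for nontrivial `l`. -/
theorem ind_apply {l : IrrCharacter (Q P)} (hl : Char.trivialChar (Q P) ≠ l) (g : G) :
    ind P l g = ∑ χ ∈ S.D.Pos, mult P χ.1 l * χ.1 g +
      mult P θ₀.1 l * ∑ θ ∈ S.D.Θ, θ.1 g := by
  have hm := S.master hε hθ₀ l
  rw [if_neg hl, zero_add] at hm
  have h1 : ind P l g = ∑ χ ∈ S.D.Pos ∪ S.D.Θ, mult P χ.1 l * χ.1 g := by
    refine eq_sum_of_degree (isCharacter_ind l) _ _ (fun χ _ => classInner_ind (Char.irr_isCharacter χ) l)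
      ?_ g
    rw [Finset.sum_union S.D.disjPΘ, Finset.sum_congr rfl (fun χ hχ => show mult P χ.1 l * χ.1 1 =
        mult P χ.1 l * (1 + (n : ℂ) * p) by
          rw [← Char.charDegree_cast, S.pos_deg χ hχ]; push_cast; ring),
      Finset.sum_congr (s₁ := S.D.Θ) rfl (fun θ hθ => show mult P θ.1 l * θ.1 1 =
        mult P θ₀.1 l * θ₀.1 1 by
          rw [S.mult_theta_eq hε hθ hθ₀ l, S.D.agree θ hθ θ₀ hθ₀ 1 isPRegular_one]),
      ← Finset.sum_mul, Finset.sum_const, S.D.cardΘ, nsmul_eq_mul, S.ind_one, ← Char.charDegree_cast]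
    have hd : (t : ℂ) * (charDegree θ₀.1 : ℕ) = 1 + (n : ℂ) * p := by
      exact_mod_cast S.theta_deg hε hθ₀
    linear_combination -(1 + (n : ℂ) * p) * hm - mult P θ₀.1 l * hd
  rw [h1, Finset.sum_union S.D.disjPΘ, Finset.mul_sum]
  congr 1
  exact Finset.sum_congr rfl fun θ hθ => by rw [S.mult_theta_eq hε hθ hθ₀ l]

theorem ind_apply_regular {l : IrrCharacter (Q P)} (hl : Char.trivialChar (Q P) ≠ l) {g : G}
    (hg : IsPRegular p g) :
    ind P l g = ∑ χ ∈ S.D.Pos, mult P χ.1 l * χ.1 g + mult P θ₀.1 l * ((t : ℂ) * θ₀.1 g) := by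
  rw [S.ind_apply hε hθ₀ hl g,
    Finset.sum_congr (s₁ := S.D.Θ) rfl (fun θ hθ => S.D.agree θ hθ θ₀ hθ₀ g hg),
    Finset.sum_const, S.D.cardΘ, nsmul_eq_mul]

/-- A positive character is induced. -/
theorem pos_ind {χ : IrrCharacter G} (hχ : χ ∈ S.D.Pos) :
    ∃ l, Char.trivialChar (Q P) ≠ l ∧ mult P θ₀.1 l = 0 ∧ ∀ g, ind P l g = χ.1 g := by
  choose mP hmP using fun (χ : IrrCharacter G) l => exists_nat_mult (P := P) (Char.irr_isCharacter χ) l
  obtain ⟨l, hl⟩ : ∃ l, mP χ l ≠ 0 := by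
    by_contra! h0
    have := S.sc.sum_mult χ.1
    simp only [hmP, h0, Nat.cast_zero, Finset.sum_const_zero, S.avg_pos hχ] at this
    have : n + 1 = 0 := by exact_mod_cast this.symm
    omega
  have hlne : Char.trivialChar (Q P) ≠ l := by
    intro e
    have := (S.master_triv hε hθ₀).1 χ hχ
    rw [e, hmP, Nat.cast_eq_zero] at this
    exact hl this
  have hm := S.master hε hθ₀ l
  rw [if_neg hlne, zero_add, ← Finset.add_sum_erase _ _ hχ] at hm
  simp only [hmP, ← Nat.cast_sum, ← Nat.cast_add, Nat.cast_eq_one] at hm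
  have h0 : mP θ₀ l = 0 ∧ mP χ l = 1 ∧ ∑ ψ ∈ S.D.Pos.erase χ, mP ψ l = 0 := by omega
  refine ⟨l, hlne, by rw [hmP, h0.1, Nat.cast_zero], fun g => ?_⟩
  rw [S.ind_apply hε hθ₀ hlne g, hmP θ₀, h0.1, Nat.cast_zero, zero_mul, add_zero,
    ← Finset.add_sum_erase _ _ hχ, hmP χ, h0.2.1, Nat.cast_one, one_mul,
    Finset.sum_eq_zero fun ψ hψ => by
      rw [hmP ψ, Finset.sum_eq_zero_iff.1 h0.2.2 ψ hψ, Nat.cast_zero, zero_mul], add_zero]

theorem exists_k : ∃ k : ℕ, 0 < k ∧ t * k = n + 1 ∧ (k : ℂ) = avg P θ₀.1 1 ∧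
    (qIdx P : ℤ) - 1 = S.D.Pos.card * (n + 1) + k ∧ (charDegree θ₀.1 : ℤ) = k * p - qIdx P := by
  choose mP hmP using fun l => exists_nat_mult (P := P) (Char.irr_isCharacter θ₀) l
  refine ⟨∑ l, mP l, ?_⟩
  have hk : ((∑ l, mP l : ℕ) : ℂ) = avg P θ₀.1 1 := by
    rw [← S.sc.sum_mult θ₀.1, Nat.cast_sum]
    exact Finset.sum_congr rfl fun l _ => (hmP l).symm
  set k := ∑ l, mP l
  have htk : t * k = n + 1 := by
    apply Nat.cast_injective (R := ℂ)
    push_cast
    rw [hk]; exact S.avg_theta hε hθ₀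
  have hd : (t : ℤ) * (charDegree θ₀.1 : ℕ) = 1 + (n : ℤ) * p := by
    exact_mod_cast S.theta_deg hε hθ₀
  have htq : (t : ℤ) * qIdx P + 1 = p := by exact_mod_cast S.D.htm
  have hb : (charDegree θ₀.1 : ℤ) = k * p - qIdx P := by
    refine mul_left_cancel₀ (by exact_mod_cast S.t_pos.ne' : (t : ℤ) ≠ 0) ?_
    have : (t : ℤ) * k = n + 1 := by exact_mod_cast htk
    linear_combination hd - (p : ℤ) * this + htq
  refine ⟨Nat.pos_of_ne_zero fun h0 => by rw [h0, mul_zero] at htk; omega, htk, hk, ?_, hb⟩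
  have hrel := S.D.relation θ₀ hθ₀ 1 isPRegular_one
  have hneg : ∀ χ ∈ S.D.Neg, χ.1 1 = (p : ℂ) - 1 := fun χ hχ => by
    rw [← Char.charDegree_cast]
    have h : ((charDegree χ.1 : ℕ) : ℂ) + 1 = p := by exact_mod_cast S.neg_deg χ hχ
    linear_combination h
  have hpos : ∀ χ ∈ S.D.Pos, χ.1 1 = ((1 + n * p : ℕ) : ℂ) := fun χ hχ => by
    rw [← Char.charDegree_cast, S.pos_deg χ hχ]
  rw [hε, Finset.sum_congr rfl hpos, Finset.sum_congr rfl hneg, ← Char.charDegree_cast,
    Finset.sum_const, Finset.sum_const, nsmul_eq_mul, nsmul_eq_mul] at hrel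
  have hrelZ : -(charDegree θ₀.1 : ℤ) =
      1 + (S.D.Pos.card : ℤ) * (1 + n * p) - S.D.Neg.card * ((p : ℤ) - 1) := by
    apply Int.cast_injective (α := ℂ)
    push_cast at hrel ⊢
    linear_combination hrel
  have hcard : (S.D.Pos.card : ℤ) + S.D.Neg.card + 1 = qIdx P := by exact_mod_cast S.D.card_sum
  refine mul_left_cancel₀ (by exact_mod_cast hp.out.ne_zero : (p : ℤ) ≠ 0) ?_
  linear_combination hrelZ - ((p : ℤ) - 1) * hcard + hb

theorem sum_lam_eq_zero (g : NP P) (hg : (g : G) ∉ (P : Subgroup G)) :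
    ∑ l : IrrCharacter (Q P), lam P l g = 0 := by
  have h := Char.sum_irr_degree_mul (QuotientGroup.mk' (PN P) g)
  rw [if_neg fun e => hg ((mk_eq_one_iff P g).1 e)] at h
  rw [← h]
  exact Finset.sum_congr rfl fun l _ => by
    rw [Char.apply_one_of_comm S.sc.comm_Q l, one_mul]; rfl

/-- An element of the normalizer outside `P` fixes `n + 1` Sylow subgroups. -/
theorem ind_trivial (g : NP P) (hg : (g : G) ∉ (P : Subgroup G)) :
    ind P (Char.trivialChar (Q P)) (g : G) = (n : ℂ) + 1 := by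
  have hr := S.sc.isPRegular g.2 hg
  have htot : ∑ l : IrrCharacter (Q P), ind P l (g : G) = 0 := by
    refine mul_left_cancel₀ (show (Nat.card (NP P) : ℂ) ≠ 0 from Nat.cast_ne_zero.2 Nat.card_pos.ne') ?_
    rw [Finset.mul_sum, Finset.sum_congr rfl fun l _ => card_NP_mul_ind l (g : G), Finset.sum_comm,
      mul_zero]
    refine Finset.sum_eq_zero fun x _ => ?_
    by_cases hx : x⁻¹ * (g : G) * x ∈ NP P
    · simp only [dif_pos hx]
      refine S.sum_lam_eq_zero hε hθ₀ ⟨_, hx⟩ fun hP' => ?_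
      have hord : orderOf (x⁻¹ * (g : G) * x) = orderOf (g : G) := by
        simpa using orderOf_injective (MulAut.conj x⁻¹).toMonoidHom (MulAut.conj x⁻¹).injective (g : G)
      refine hr ?_
      rw [← hord]
      by_cases h1 : x⁻¹ * (g : G) * x = 1
      · exfalso
        refine hg ?_
        have : (g : G) = 1 := by
          calc (g : G) = x * (x⁻¹ * g * x) * x⁻¹ := by group
            _ = 1 := by rw [h1]; group
        rw [this]; exact one_mem _
      · exact dvd_of_eq (S.sc.orderOf_eq hP' h1).symm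
    · simp [dif_neg hx]
  rw [← Finset.add_sum_erase _ _ (Finset.mem_univ (Char.trivialChar (Q P))),
    Finset.sum_congr rfl (fun l hl => S.ind_apply_regular hε hθ₀
      (Finset.ne_of_mem_erase hl).symm hr), Finset.sum_add_distrib, Finset.sum_comm,
    ← Finset.sum_mul, Finset.sum_congr rfl (fun χ hχ => show
      ∑ l ∈ Finset.univ.erase (Char.trivialChar (Q P)), mult P χ.1 l * χ.1 (g : G) =
        ((n : ℂ) + 1) * χ.1 (g : G) by
      rw [← Finset.sum_mul]
      congr 1
      rw [← S.avg_pos hχ, ← S.sc.sum_mult χ.1,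
        ← Finset.add_sum_erase _ (fun l => mult P χ.1 l) (Finset.mem_univ (Char.trivialChar (Q P))),
        (S.master_triv hε hθ₀).1 χ hχ, zero_add]), ← Finset.mul_sum] at htot
  have hk : ∑ l ∈ Finset.univ.erase (Char.trivialChar (Q P)), mult P θ₀.1 l = avg P θ₀.1 1 := by
    rw [← S.sc.sum_mult θ₀.1,
      ← Finset.add_sum_erase _ (fun l => mult P θ₀.1 l) (Finset.mem_univ (Char.trivialChar (Q P))),
      (S.master_triv hε hθ₀).2, zero_add]
  rw [hk] at htot
  have hrel := S.D.relation θ₀ hθ₀ (g : G) hr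
  rw [hε, Finset.sum_eq_zero (s := S.D.Neg) fun χ hχ => S.neg_apply hχ g hg] at hrel
  push_cast at hrel
  linear_combination htot - θ₀.1 (g : G) * S.avg_theta hε hθ₀ + ((n : ℂ) + 1) * hrel

theorem not_dvd_centralizer {u : G} (hu : ∀ x : G, x⁻¹ * u * x ∉ NP P) :
    ¬ p ∣ Nat.card (Subgroup.centralizer ({u} : Set G)) := by
  intro hd
  obtain ⟨w, hw⟩ := exists_prime_orderOf_dvd_card' p hd
  have hord : orderOf (w : G) = p := by rw [Subgroup.orderOf_coe, hw]
  obtain ⟨R, hR⟩ := IsPGroup.exists_le_sylow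
    (IsPGroup.of_card (n := 1) (by rw [Nat.card_zpowers, hord, pow_one]) :
      IsPGroup p (Subgroup.zpowers (w : G)))
  obtain ⟨g, hg⟩ := MulAction.exists_smul_eq G R P
  have hgw : g * w * g⁻¹ ∈ (P : Subgroup G) := by
    rw [← hg]
    exact Subgroup.smul_mem_pointwise_smul (w : G) (MulAut.conj g) _ (hR (Subgroup.mem_zpowers _))
  have hne : g * (w : G) * g⁻¹ ≠ 1 := fun h => hp.out.ne_one (by
    rw [← hord, orderOf_eq_one_iff]
    calc (w : G) = g⁻¹ * (g * w * g⁻¹) * g := by group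
      _ = 1 := by rw [h]; group)
  have hc : g * u * g⁻¹ ∈ Subgroup.centralizer ({g * (w : G) * g⁻¹} : Set G) := by
    refine Subgroup.mem_centralizer_singleton_iff.2 ?_
    have hw2 : (w : G) * u = u * w := Subgroup.mem_centralizer_singleton_iff.1 w.2
    calc g * u * g⁻¹ * (g * w * g⁻¹) = g * (u * w) * g⁻¹ := by group
      _ = g * (w * u) * g⁻¹ := by rw [hw2]
      _ = _ := by group
  rw [S.sc.cent _ hgw hne] at hc
  refine hu g⁻¹ (Subgroup.le_normalizer ?_)
  simpa using hc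

/-- A fixed-point-free element. -/
theorem centralizer_dvd {u : G} (hu : ∀ x : G, x⁻¹ * u * x ∉ NP P) :
    Nat.card (Subgroup.centralizer ({u} : Set G)) ∣ charDegree θ₀.1 := by
  have hnd := S.not_dvd_centralizer hε hθ₀ hu
  have hur : IsPRegular p u := fun h => hnd (h.trans (by
    rw [← Nat.card_zpowers]
    exact Subgroup.card_dvd_of_le (Subgroup.zpowers_le.2
      (Subgroup.mem_centralizer_singleton_iff.2 rfl))))
  have hind : ∀ l, ind P l u = 0 := fun l => ind_eq_zero l hu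
  have hpos : ∀ χ ∈ S.D.Pos, χ.1 u = 0 := fun χ hχ => by
    obtain ⟨l, -, -, hl⟩ := S.pos_ind hε hθ₀ hχ
    rw [← hl u, hind]
  obtain ⟨k, hk0, -, hk, -, -⟩ := S.exists_k hε hθ₀
  have hθu : θ₀.1 u = 0 := by
    obtain ⟨l, hl⟩ : ∃ l, mult P θ₀.1 l ≠ 0 := by
      by_contra! h0
      rw [← S.sc.sum_mult θ₀.1, Finset.sum_eq_zero fun l _ => h0 l, Nat.cast_eq_zero] at hk
      omega
    have hlne : Char.trivialChar (Q P) ≠ l := fun e => hl (e ▸ (S.master_triv hε hθ₀).2)
    have h := S.ind_apply_regular hε hθ₀ hlne hur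
    rw [hind, Finset.sum_eq_zero fun χ hχ => by rw [hpos χ hχ, mul_zero], zero_add] at h
    exact (mul_eq_zero.1 ((mul_eq_zero.1 h.symm).resolve_left hl)).resolve_left S.tpos'
  have hrel := S.D.relation θ₀ hθ₀ u hur
  rw [hθu, Finset.sum_eq_zero hpos] at hrel
  have hd := dvd_card_class S.D.Neg (d := p - 1) (by have := hp.out.two_le; omega)
    (fun χ hχ => by have := S.neg_deg χ hχ; omega) u (a := 1) (Or.inl rfl) (by
      push_cast
      linear_combination hrel)
  set C := Nat.card (Subgroup.centralizer ({u} : Set G)) with hC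
  set K := Nat.card {h : G // IsConj u h} with hK
  have hCK : C * K = (1 + n * p) * (qIdx P * p) := by
    rw [hC, hK, Char.card_centralizer_mul_card_conj, ← S.card_sylow, ← S.cardN,
      P.card_eq_index_normalizer, mul_comm]
    exact (Subgroup.card_mul_index _).symm
  obtain ⟨K', hK'⟩ := hd
  have htq : t * qIdx P = p - 1 := by have := S.D.htm; omega
  have h1 : C * K' = charDegree θ₀.1 * p := by
    refine Nat.eq_of_mul_eq_mul_left (show 0 < p - 1 by have := hp.out.two_le; omega) ?_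
    calc (p - 1) * (C * K') = C * ((p - 1) * K') := by ring
      _ = (1 + n * p) * (qIdx P * p) := by rw [← hK', hCK]
      _ = (t * charDegree θ₀.1) * (qIdx P * p) := by rw [S.theta_deg hε hθ₀]
      _ = (t * qIdx P) * (charDegree θ₀.1 * p) := by ring
      _ = _ := by rw [htq]
  exact (Nat.Coprime.symm ((Nat.Prime.coprime_iff_not_dvd hp.out).2 hnd)).dvd_of_dvd_mul_right
    (Dvd.intro _ h1)

end Setup

end Cfsg.Agent.BrauerPSL
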