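import Cfsg.Agent.Lib.BrauerPSL.CaseB

/-!
# Exceptional degree `(1 + n p) / t`: `n = 1`, `t = 2`, or `q = 2` and elementary abelian centraliser
-/

set_option autoImplicit false
set_option linter.style.haveILetI false
set_option linter.unusedSectionVars false

namespace Cfsg.Agent.BrauerPSL

open Cfsg Cfsg.Agent
open scoped ComplexConjugate Classical

universe u

variable {G : Type u} [Group G] [Fintype G] {p : ℕ} [hp : Fact p.Prime] {P : Sylow p G}

/-- The number of Sylow subgroups fixed, times `|N_G(P)|`. -/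
noncomputable def xset (P : Sylow p G) (g : G) : Finset G :=
  Finset.univ.filter fun x => x⁻¹ * g * x ∈ NP P

theorem mem_xset {g x : G} : x ∈ xset P g ↔ x⁻¹ * g * x ∈ NP P := by simp [xset]

theorem card_xset (g : G) :
    ((xset P g).card : ℂ) = Nat.card (NP P) * ind P (Char.trivialChar (Q P)) g := by
  rw [card_NP_mul_ind, xset, Finset.card_filter, Nat.cast_sum]
  refine Finset.sum_congr rfl fun x _ => ?_
  by_cases h : x⁻¹ * g * x ∈ NP P
  · rw [if_pos h, dif_pos h, lam_trivial, Nat.cast_one]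
  · rw [if_neg h, dif_neg h, Nat.cast_zero]

theorem xset_pow (g : G) (i : ℕ) : xset P g ⊆ xset P (g ^ i) := fun x hx => by
  rw [mem_xset] at hx ⊢
  have : x⁻¹ * g ^ i * x = (x⁻¹ * g * x) ^ i := by
    induction i with
    | zero => simp
    | succ i ih => rw [pow_succ, pow_succ, ← ih]; group
  rw [this]
  exact pow_mem hx i

/-- A linear character of `Q` is a homomorphism. -/
theorem lam_sq (hQ : ∀ a b : Q P, a * b = b * a) (l : IrrCharacter (Q P)) {g : NP P}
    (hg : QuotientGroup.mk' (PN P) g * QuotientGroup.mk' (PN P) g = 1) :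
    lam P l g = 1 ∨ lam P l g = -1 := by
  obtain ⟨f, hf⟩ := Char.IsCharacter.exists_monoidHom (Char.irr_isCharacter l)
    (Char.apply_one_of_comm hQ l)
  have h2 : lam P l g * lam P l g = 1 := by
    rw [lam, ← hf, ← map_mul, hg, map_one]
  exact mul_self_eq_one_iff.1 h2

namespace Setup

variable {n t : ℕ} (S : Setup P n t) (hε : S.D.ε = -1) {θ₀ : IrrCharacter G} (hθ₀ : θ₀ ∈ S.D.Θ)
include S hε hθ₀

theorem exists_half : ∃ h, qIdx P = 2 * h := by
  rcases Nat.even_or_odd (qIdx P) with ⟨h, hh⟩ | hodd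
  · exact ⟨h, by omega⟩
  exfalso
  obtain ⟨k, -, htk, -, hq, hb⟩ := S.exists_k hε hθ₀
  have hqp := S.sc.qIdx_lt
  have hqpos := qIdx_pos P
  have hpodd : Odd p := hp.out.odd_of_ne_two fun hp2 => by
    -- `p = 2` forces `q = 1` and no character of degree `1 + n p`
    have h1 : (qIdx P : ℤ) - 1 = 0 := by omega
    rw [h1] at hq
    have h2 : k ≠ 0 := fun h0 => by rw [h0, mul_zero] at htk; omega
    have : (0 : ℤ) ≤ S.D.Pos.card * (n + 1) := by positivity
    omega
  have ht : Even t := by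
    have h1 : Even (t * qIdx P) := by
      have h2 := S.D.htm
      obtain ⟨a, ha⟩ := hpodd
      exact ⟨a, by omega⟩
    rcases Nat.even_mul.1 h1 with h | h
    · exact h
    · exact absurd h (Nat.not_even_iff_odd.2 hodd)
  have hk : Even k := by
    have h1 : qIdx P = S.D.Pos.card * (t * k) + k + 1 := by
      rw [htk]
      have : ((qIdx P : ℕ) : ℤ) = ((S.D.Pos.card * (n + 1) + k + 1 : ℕ) : ℤ) := by
        push_cast; linarith
      exact_mod_cast this
    have h2 : Even (S.D.Pos.card * (t * k)) := (ht.mul_right k).mul_left _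
    rw [h1] at hodd
    rw [Nat.odd_add_one, Nat.not_odd_iff_even] at hodd
    exact (Nat.even_add.1 hodd).1 h2
  have h2G : 2 ∣ Nat.card G := by
    refine dvd_trans ?_ (Sylow.card_dvd_index P |>.trans (Subgroup.index_dvd_card _))
    rw [S.card_sylow, ← S.theta_deg hε hθ₀]
    exact dvd_mul_of_dvd_left (even_iff_two_dvd.1 ht) _
  obtain ⟨z, hz⟩ := exists_prime_orderOf_dvd_card' 2 h2G
  have hfree : ∀ x : G, x⁻¹ * z * x ∉ NP P := by
    intro x hx
    have hord : orderOf (x⁻¹ * z * x) = 2 := by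
      rw [← hz]
      simpa using orderOf_injective (MulAut.conj x⁻¹).toMonoidHom (MulAut.conj x⁻¹).injective z
    by_cases hP : x⁻¹ * z * x ∈ (P : Subgroup G)
    · have h1 := S.sc.orderOf_eq hP fun h => by rw [h, orderOf_one] at hord; omega
      rw [hord] at h1
      obtain ⟨a, ha⟩ := hpodd
      omega
    · have h1 := S.sc.orderOf_dvd hx hP
      rw [hord] at h1
      obtain ⟨a, ha⟩ := hodd
      omega
  have h2C : 2 ∣ Nat.card (Subgroup.centralizer ({z} : Set G)) := by
    rw [← hz, ← Nat.card_zpowers]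
    exact Subgroup.card_dvd_of_le (Subgroup.zpowers_le.2 (Subgroup.mem_centralizer_singleton_iff.2 rfl))
  have h2b : (2 : ℤ) ∣ (charDegree θ₀.1 : ℤ) :=
    Int.natCast_dvd_natCast.2 (h2C.trans (S.centralizer_dvd hε hθ₀ hfree))
  rw [hb] at h2b
  obtain ⟨j, hj⟩ := hk
  obtain ⟨a, ha⟩ := h2b
  obtain ⟨i, hi⟩ := hodd
  have : (2 : ℤ) * ((j : ℤ) * p - i - a) = 1 := by
    have h3 : (k : ℤ) = j + j := by exact_mod_cast hj
    have h4 : (qIdx P : ℤ) = 2 * i + 1 := by exact_mod_cast hi
    linear_combination ha - (p : ℤ) * h3 + h4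
  omega

theorem case_neg :
    (n = 1 ∧ t = 2) ∨ (qIdx P = 2 ∧ n + 1 = t ∧ ∃ s : G, orderOf s = 2 ∧
      Nat.card (Subgroup.centralizer ({s} : Set G)) = p - 1 ∧
      ∀ u ∈ Subgroup.centralizer ({s} : Set G), u * u = 1 ∧ (u ≠ 1 → IsConj s u)) := by
  obtain ⟨h, hh⟩ := S.exists_half hε hθ₀
  have hqpos := qIdx_pos P
  have hn1 := S.one_le
  haveI := S.sc.isCyclic_Q.1
  obtain ⟨c₀, hc₀⟩ := IsCyclic.exists_generator (α := Q P)
  obtain ⟨c, hc⟩ := QuotientGroup.mk'_surjective (PN P) c₀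
  have hc₀ord : orderOf c₀ = qIdx P := orderOf_eq_card_of_forall_mem_zpowers hc₀
  have hcP : (c : G) ∉ (P : Subgroup G) := fun hmem => by
    have h1 := (mk_eq_one_iff P c).2 hmem
    rw [hc] at h1
    rw [h1, orderOf_one] at hc₀ord
    omega
  have hcord : orderOf (c : G) = qIdx P := by
    refine Nat.dvd_antisymm (S.sc.orderOf_dvd c.2 hcP) ?_
    rw [← hc₀ord, ← hc, Subgroup.orderOf_coe]
    exact orderOf_map_dvd _ _
  set s : G := (c : G) ^ h with hs
  set σ : Q P := c₀ ^ h with hσ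
  have hσ1 : σ ≠ 1 := pow_ne_one_of_lt_orderOf (by omega) (by omega)
  have hσ2 : σ * σ = 1 := by
    rw [hσ, ← pow_add, show h + h = qIdx P by omega, ← hc₀ord, pow_orderOf_eq_one]
  have hsmk : QuotientGroup.mk' (PN P) (c ^ h) = σ := by rw [map_pow, hc]
  have hsP : s ∉ (P : Subgroup G) := fun hmem =>
    hσ1 (hsmk ▸ (mk_eq_one_iff P (c ^ h)).2 (by simpa [hs] using hmem))
  have hsN : s ∈ NP P := pow_mem c.2 h
  have hs2 : orderOf s = 2 := by
    rw [hs, orderOf_pow_of_dvd (by omega) (by rw [hcord, hh]; exact dvd_mul_left _ _), hcord, hh,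
      Nat.mul_div_cancel _ (by omega)]
  have hinv : ∀ a : Q P, a * a = 1 → a = 1 ∨ a = σ := by
    intro a ha
    by_contra hne
    push Not at hne
    have h1 := IsCyclic.card_pow_eq_one_le (α := Q P) (n := 2) two_pos
    have h2 : ({1, σ, a} : Finset (Q P)) ⊆ Finset.univ.filter fun b => b ^ 2 = 1 := by
      intro b hb
      simp only [Finset.mem_insert, Finset.mem_singleton] at hb
      rw [Finset.mem_filter, sq]
      rcases hb with rfl | rfl | rfl <;> simp [hσ2, ha]
    have h3 := (Finset.card_le_card h2).trans h1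
    rw [Finset.card_eq_three.2 ⟨1, σ, a, hσ1.symm, hne.1.symm, hne.2.symm, rfl⟩] at h3
    omega
  -- the character of order two
  have hpowσ : ∀ a : Q P, a ^ h = 1 ∨ a ^ h = σ := by
    intro a
    refine hinv _ ?_
    rw [← pow_add, show h + h = qIdx P by omega]
    exact pow_card_eq_one'
  let f₂ : Q P →* ℂ :=
    { toFun := fun a => if a ^ h = 1 then 1 else -1
      map_one' := by simp
      map_mul' := fun a b => by
        rw [show (a * b) ^ h = a ^ h * b ^ h from (Commute.mul_pow (S.sc.comm_Q a b) h)]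
        rcases hpowσ a with ha | ha <;> rcases hpowσ b with hb | hb <;>
          simp [ha, hb, hσ1, hσ2] }
  set l₂ : IrrCharacter (Q P) := Char.linIrr f₂ with hl₂
  have hl₂v : ∀ g : NP P, (g : G) ∉ (P : Subgroup G) →
      lam P l₂ g = if (g : G) ^ h = 1 then 1 else -1 := by
    intro g hg
    show (if (QuotientGroup.mk' (PN P) g) ^ h = 1 then (1 : ℂ) else -1) = _
    refine if_congr ?_ rfl rfl
    rw [← map_pow, mk_eq_one_iff, SubgroupClass.coe_pow]
    exact ⟨fun hm => S.sc.eq_one_of_commute hg hm ((Commute.refl (g : G)).pow_right h).eq,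
      fun hm => by rw [hm]; exact one_mem _⟩
  have hl₂ne : Char.trivialChar (Q P) ≠ l₂ := by
    intro e
    have h1 := congrFun (congrArg Subtype.val e) c₀
    change (1 : ℂ) = if c₀ ^ h = 1 then 1 else -1 at h1
    rw [if_neg hσ1] at h1
    norm_num at h1
  -- values of induced characters off `P`
  have htriv := S.ind_trivial hε hθ₀
  have hind₂ : ∀ g : NP P, (g : G) ∉ (P : Subgroup G) →
      ind P l₂ (g : G) = ((n : ℂ) + 1) * lam P l₂ g := by
    intro g hg
    refine mul_left_cancel₀ (show (Nat.card (NP P) : ℂ) ≠ 0 from Nat.cast_ne_zero.2 Nat.card_pos.ne') ?_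
    rw [card_NP_mul_ind, ← htriv g hg, ← mul_assoc, card_NP_mul_ind, Finset.sum_mul]
    refine Finset.sum_congr rfl fun x _ => ?_
    by_cases hx : x⁻¹ * (g : G) * x ∈ NP P
    · rw [dif_pos hx, dif_pos hx, lam_trivial, one_mul]
      have hx' : x⁻¹ * (g : G) * x ∉ (P : Subgroup G) := by
        intro hmem
        have hord : orderOf (x⁻¹ * (g : G) * x) = orderOf (g : G) := by
          simpa using orderOf_injective (MulAut.conj x⁻¹).toMonoidHom (MulAut.conj x⁻¹).injective (g : G)
        by_cases h1 : x⁻¹ * (g : G) * x = 1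
        · apply hg
          rw [show (g : G) = x * (x⁻¹ * g * x) * x⁻¹ by group, h1]
          simp
        · rw [S.sc.orderOf_eq hmem h1] at hord
          exact S.sc.isPRegular g.2 hg (dvd_of_eq hord)
      rw [hl₂v ⟨_, hx⟩ hx', hl₂v g hg]
      refine if_congr ?_ rfl rfl
      show (x⁻¹ * (g : G) * x) ^ h = 1 ↔ _
      rw [show x⁻¹ * (g : G) * x = MulAut.conj x⁻¹ (g : G) by simp, ← map_pow,
        EmbeddingLike.map_eq_one_iff]
    · rw [dif_neg hx, dif_neg hx, zero_mul]
  have hmult₂ : mult P (ind P l₂) l₂ = (n : ℂ) + 1 := by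
    have hv : ∀ g : NP P, ind P l₂ (g : G) * conj (lam P l₂ g) =
        (n + 1) + (if (g : G) ∈ (P : Subgroup G) then -(n : ℂ) else 0) +
          if g = 1 then (n : ℂ) * p else 0 := by
      intro g
      by_cases hg : (g : G) ∈ (P : Subgroup G)
      · rw [lam_of_mem P S.sc.comm_Q l₂ hg, map_one, mul_one, if_pos hg]
        by_cases hg1 : g = 1
        · rw [if_pos hg1, hg1, OneMemClass.coe_one, S.ind_one]; ring
        · rw [if_neg hg1, S.sc.ind_of_mem l₂ hg fun e => hg1 (Subtype.ext e)]; ring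
      · rw [if_neg hg, if_neg fun e => hg (by rw [e]; exact one_mem _), hind₂ g hg, hl₂v g hg]
        split_ifs <;> simp
    rw [mult, classInner, Finset.sum_congr rfl fun g _ => hv g, Finset.sum_add_distrib,
      Finset.sum_add_distrib, Finset.sum_ite_eq' Finset.univ (1 : NP P) (fun _ => (n : ℂ) * p),
      if_pos (Finset.mem_univ _), ← Finset.sum_filter, Finset.sum_const, Finset.sum_const,
      Finset.card_univ, ← Fintype.card_subtype, ← Nat.card_eq_fintype_card, ← Nat.card_eq_fintype_card,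
      show Nat.card {g : NP P // (g : G) ∈ (P : Subgroup G)} = p from
        (Nat.card_congr (Subgroup.subgroupOfEquivOfLe Subgroup.le_normalizer).toEquiv).trans S.sc.card,
      nsmul_eq_mul, nsmul_eq_mul, S.cardN]
    push_cast
    field_simp [S.hpne, show (qIdx P : ℂ) ≠ 0 from Nat.cast_ne_zero.2 hqpos.ne']
    ring
  have hnorm : classInner (ind P l₂) (ind P l₂) = (n : ℂ) + 1 :=
    (classInner_ind (isCharacter_ind l₂) l₂).trans hmult₂
  choose mP hmP using fun (χ : IrrCharacter G) l => exists_nat_mult (P := P) (Char.irr_isCharacter χ) l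
  have hcases : mP θ₀ l₂ = 1 ∧ n + 1 = t := by
    have hm := S.master hε hθ₀ l₂
    rw [if_neg hl₂ne, zero_add] at hm
    simp only [hmP, ← Nat.cast_sum, ← Nat.cast_add, Nat.cast_eq_one] at hm
    rcases Nat.eq_zero_or_pos (mP θ₀ l₂) with h0 | h0
    · exfalso
      obtain ⟨χ, hχ, hχ1⟩ := Finset.exists_ne_zero_of_sum_ne_zero (s := S.D.Pos)
        (f := fun χ => mP χ l₂) (by omega)
      have hsplit := Finset.add_sum_erase S.D.Pos (fun χ => mP χ l₂) hχ
      have hrest : ∑ ψ ∈ S.D.Pos.erase χ, mP ψ l₂ = 0 := by omega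
      have heq : ind P l₂ = χ.1 := by
        funext g
        rw [S.ind_apply hε hθ₀ hl₂ne g, hmP θ₀, h0, Nat.cast_zero, zero_mul, add_zero,
          ← Finset.add_sum_erase _ _ hχ, hmP χ, show mP χ l₂ = 1 by omega, Nat.cast_one, one_mul,
          Finset.sum_eq_zero fun ψ hψ => by
            rw [hmP ψ, Finset.sum_eq_zero_iff.1 hrest ψ hψ, Nat.cast_zero, zero_mul], add_zero]
      rw [heq, Char.classInner_irr_self χ.2] at hnorm
      have : (1 : ℕ) = n + 1 := by exact_mod_cast hnorm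
      omega
    · have h1 : mP θ₀ l₂ = 1 ∧ ∑ ψ ∈ S.D.Pos, mP ψ l₂ = 0 := by omega
      refine ⟨h1.1, ?_⟩
      have heq : ind P l₂ = fun g => ∑ θ ∈ S.D.Θ, θ.1 g := by
        funext g
        rw [S.ind_apply hε hθ₀ hl₂ne g, hmP θ₀, h1.1, Nat.cast_one, one_mul,
          Finset.sum_eq_zero fun ψ hψ => by
            rw [hmP ψ, Finset.sum_eq_zero_iff.1 h1.2 ψ hψ, Nat.cast_zero, zero_mul], zero_add]
      have h2 : classInner (ind P l₂) (ind P l₂) = (t : ℂ) := by
        conv_lhs => arg 2; rw [heq, show (fun g => ∑ θ ∈ S.D.Θ, θ.1 g) =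
          ∑ θ ∈ S.D.Θ, θ.1 from funext fun g => (Finset.sum_apply _ _ _).symm]
        rw [Char.classInner_sum_right, Finset.sum_congr (s₁ := S.D.Θ) rfl (fun θ hθ => show
          classInner (ind P l₂) θ.1 = 1 by
            rw [classInner_ind (Char.irr_isCharacter θ), S.mult_theta_eq hε hθ hθ₀ l₂, hmP, h1.1,
              Nat.cast_one]), Finset.sum_const, S.D.cardΘ, nsmul_one]
      rw [h2] at hnorm
      exact_mod_cast hnorm.symm
  obtain ⟨hθ₂, hnt⟩ := hcases
  obtain ⟨k, -, htk, hk, hq, hb⟩ := S.exists_k hε hθ₀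
  have hk1 : k = 1 := by
    refine Nat.eq_of_mul_eq_mul_left S.t_pos ?_
    rw [htk, mul_one, hnt]
  subst hk1
  rw [show ((n : ℤ) + 1) = (t : ℤ) by exact_mod_cast hnt] at hq
  set x := S.D.Pos.card with hx
  have hqxt : qIdx P = x * t + 2 := by
    have : ((qIdx P : ℕ) : ℤ) = ((x * t + 2 : ℕ) : ℤ) := by push_cast at hq ⊢; linarith
    exact_mod_cast this
  have ht2 : 2 ≤ t := by omega
  have hpq : charDegree θ₀.1 + qIdx P = p := by
    push_cast at hb; omega
  have hsNP : ((c ^ h : NP P) : G) = s := by simp [hs]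
  -- values at the involution
  have hcos : ∀ x : G, (hx : x⁻¹ * s * x ∈ NP P) →
      QuotientGroup.mk' (PN P) ⟨_, hx⟩ = σ ∧ x⁻¹ * s * x ∉ (P : Subgroup G) := by
    intro x hx
    have hord : orderOf (x⁻¹ * s * x) = 2 := by
      rw [← hs2]
      simpa using orderOf_injective (MulAut.conj x⁻¹).toMonoidHom (MulAut.conj x⁻¹).injective s
    have hnot : x⁻¹ * s * x ∉ (P : Subgroup G) := by
      intro hmem
      have h1 := S.sc.orderOf_eq hmem fun e => by rw [e, orderOf_one] at hord; omega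
      rw [hord] at h1
      have := S.sc.qIdx_lt
      omega
    refine ⟨(hinv _ ?_).resolve_left fun e => hnot ((mk_eq_one_iff P ⟨_, hx⟩).1 e), hnot⟩
    rw [← map_mul]
    refine (mk_eq_one_iff P _).2 ?_
    have h1 : (x⁻¹ * s * x) * (x⁻¹ * s * x) = 1 := by
      rw [← sq, ← hord, pow_orderOf_eq_one]
    show (x⁻¹ * s * x) * (x⁻¹ * s * x) ∈ (P : Subgroup G)
    rw [h1]; exact one_mem _
  have hind_s : ∀ l, ind P l s = (t : ℂ) * lam P l (c ^ h) := by
    intro l
    refine mul_left_cancel₀ (show (Nat.card (NP P) : ℂ) ≠ 0 from Nat.cast_ne_zero.2 Nat.card_pos.ne') ?_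
    rw [show (t : ℂ) = (n : ℂ) + 1 by exact_mod_cast hnt.symm,
      ← htriv (c ^ h) (hsNP ▸ hsP), hsNP, card_NP_mul_ind, ← mul_assoc, card_NP_mul_ind, Finset.sum_mul]
    refine Finset.sum_congr rfl fun x _ => ?_
    by_cases hx : x⁻¹ * s * x ∈ NP P
    · rw [dif_pos hx, dif_pos hx, lam_trivial, one_mul]
      simp only [lam, (hcos x hx).1, hsmk]
    · rw [dif_neg hx, dif_neg hx, zero_mul]
  have hθs : θ₀.1 s = lam P l₂ (c ^ h) := by
    rw [← hsNP, S.sc.apply_eq_sum (Char.IsCharacter.isClassFunction (Char.irr_isCharacter θ₀))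
      (c ^ h) (hsNP ▸ hsP), Finset.sum_eq_single l₂, hmP, hθ₂, Nat.cast_one, one_mul]
    · intro l _ hl
      have hsum : ∑ l, mP θ₀ l = 1 := by
        apply Nat.cast_injective (R := ℂ)
        push_cast
        rw [Nat.cast_one] at hk
        rw [hk, ← S.sc.sum_mult]
        exact Finset.sum_congr rfl fun l _ => (hmP θ₀ l).symm
      rw [← Finset.add_sum_erase _ _ (Finset.mem_univ l₂), hθ₂] at hsum
      have h1 : ∑ l ∈ Finset.univ.erase l₂, mP θ₀ l = 0 := by omega
      rw [hmP, Finset.sum_eq_zero_iff.1 h1 l (Finset.mem_erase.2 ⟨hl, Finset.mem_univ _⟩),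
        Nat.cast_zero, zero_mul]
    · exact fun hno => absurd (Finset.mem_univ _) hno
  have hrel := S.D.relation θ₀ hθ₀ s (S.sc.isPRegular hsN hsP)
  have hpos_s : ∀ χ ∈ S.D.Pos, ∃ e : ℤ, χ.1 s = ((t : ℤ) * e : ℤ) := by
    intro χ hχ
    obtain ⟨l, -, -, hl⟩ := S.pos_ind hε hθ₀ hχ
    rw [← hl s, hind_s l]
    rcases lam_sq S.sc.comm_Q l (g := c ^ h) (by rw [hsmk, hσ2]) with e | e <;> rw [e]
    · exact ⟨1, by simp⟩
    · exact ⟨-1, by simp⟩
  choose! e he using hpos_s
  rw [hε, hθs, Finset.sum_eq_zero (s := S.D.Neg) fun χ hχ => by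
      rw [← hsNP]; exact S.neg_apply hχ _ (hsNP ▸ hsP),
    Finset.sum_congr rfl he, ← Int.cast_sum, ← Finset.mul_sum, hl₂v _ (hsNP ▸ hsP), hsNP] at hrel
  rcases Nat.even_or_odd h with hheven | hhodd
  · -- `q / 2` even
    left
    obtain ⟨j, hj⟩ := hheven
    rw [if_pos (show s ^ h = 1 by
      rw [hs, ← pow_mul, ← orderOf_dvd_iff_pow_eq_one, hcord, hh]
      exact ⟨j, by rw [hj]; ring⟩)] at hrel
    have h1 : (t : ℤ) * ∑ χ ∈ S.D.Pos, e χ = -2 := by
      apply Int.cast_injective (α := ℂ)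
      push_cast at hrel ⊢
      linear_combination -hrel
    have h2 : (t : ℤ) ∣ 2 := ⟨-∑ χ ∈ S.D.Pos, e χ, by linear_combination h1⟩
    have h3 := Int.le_of_dvd two_pos h2
    omega
  by_cases ht3 : t = 2
  · left; omega
  right
  have hXs : (xset P s).card = t * (qIdx P * p) := by
    apply Nat.cast_injective (R := ℂ)
    rw [card_xset, ← hsNP, htriv _ (hsNP ▸ hsP), S.cardN]
    push_cast
    rw [show (t : ℂ) = (n : ℂ) + 1 by exact_mod_cast hnt.symm]
    ring
  have hcard : Nat.card (Subgroup.centralizer ({s} : Set G)) = p - 1 := by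
    set Cs := Subgroup.centralizer ({s} : Set G) with hCs
    have hbij : Nat.card (Cs × (P : Subgroup G)) = Nat.card (xset P s) := by
      refine Nat.card_congr (Equiv.ofBijective
        (fun a => (⟨(a.1 : G) * ((a.2 : G))⁻¹, ?_⟩ : (xset P s))) ⟨?_, ?_⟩)
      · rw [mem_xset]
        have h1 : (a.1 : G) * s = s * a.1 := Subgroup.mem_centralizer_singleton_iff.1 a.1.2
        have : ((a.1 : G) * (a.2 : G)⁻¹)⁻¹ * s * ((a.1 : G) * (a.2 : G)⁻¹) =
            (a.2 : G) * s * (a.2 : G)⁻¹ := by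
          calc _ = (a.2 : G) * (a.1 : G)⁻¹ * (s * a.1) * (a.2 : G)⁻¹ := by group
            _ = (a.2 : G) * (a.1 : G)⁻¹ * (a.1 * s) * (a.2 : G)⁻¹ := by rw [h1]
            _ = _ := by group
        rw [this]
        exact mul_mem (mul_mem (Subgroup.le_normalizer a.2.2) hsN) (inv_mem (Subgroup.le_normalizer a.2.2))
      · intro a b hab
        have hab' : (a.1 : G) * (a.2 : G)⁻¹ = b.1 * (b.2 : G)⁻¹ := congrArg Subtype.val hab
        have h2 : (b.1 : G)⁻¹ * a.1 = (b.2 : G)⁻¹ * a.2 := by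
          calc (b.1 : G)⁻¹ * a.1 = (b.1 : G)⁻¹ * ((a.1 : G) * (a.2 : G)⁻¹) * a.2 := by group
            _ = _ := by rw [hab']; group
        have h3 : (b.2 : G)⁻¹ * a.2 ∈ Cs := h2 ▸ mul_mem (inv_mem b.1.2) a.1.2
        have h4 := S.sc.eq_one_of_commute hsP (mul_mem (inv_mem b.2.2) a.2.2)
          (Subgroup.mem_centralizer_singleton_iff.1 h3).symm
        have h5 : (b.2 : G) = a.2 := inv_mul_eq_one.1 h4
        rw [h5] at hab'
        exact Prod.ext (Subtype.ext (mul_right_cancel hab')) (Subtype.ext h5.symm)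
      · rintro ⟨x, hx⟩
        rw [mem_xset] at hx
        obtain ⟨hmk, -⟩ := hcos x hx
        have hy : s⁻¹ * (x⁻¹ * s * x) ∈ (P : Subgroup G) := by
          refine (mk_eq_one_iff P ((c ^ h)⁻¹ * ⟨_, hx⟩)).1 ?_ |> fun h' => by simpa [hs] using h'
          rw [map_mul, map_inv, hmk, hsmk, inv_mul_cancel]
        obtain ⟨y', hy', hy'eq⟩ := S.sc.exists_conj_eq hsN hsP hy
        rw [mul_inv_cancel_left] at hy'eq
        refine ⟨(⟨x * y', Subgroup.mem_centralizer_singleton_iff.2 ?_⟩, ⟨y', hy'⟩), Subtype.ext ?_⟩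
        · calc x * y' * s = x * (y' * s * y'⁻¹) * y' := by group
            _ = x * (x⁻¹ * s * x) * y' := by rw [hy'eq]
            _ = s * (x * y') := by group
        · simp
    rw [Nat.card_prod, Nat.card_eq_finsetCard, hXs] at hbij
    change Nat.card Cs * Nat.card P = _ at hbij
    rw [S.sc.card, ← mul_assoc] at hbij
    rw [Nat.eq_of_mul_eq_mul_right hp.out.pos hbij]
    have := S.D.htm
    omega
  have hpodd : Odd p := hp.out.odd_of_ne_two fun h2 => by have := S.sc.qIdx_lt; omega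
  have hexp : ∀ u ∈ Subgroup.centralizer ({s} : Set G), u ^ qIdx P = 1 := by
    intro u hu
    by_cases hu1 : u = 1
    · rw [hu1, one_pow]
    have hord : orderOf u ∣ p - 1 := hcard ▸ Subgroup.orderOf_dvd_natCard _ hu
    obtain ⟨x, hx⟩ : ∃ x : G, x⁻¹ * u * x ∈ NP P := by
      by_contra! hfree
      have h2 : 2 ∣ Nat.card (Subgroup.centralizer ({u} : Set G)) := by
        rw [← hs2, ← Nat.card_zpowers]
        refine Subgroup.card_dvd_of_le (Subgroup.zpowers_le.2
          (Subgroup.mem_centralizer_singleton_iff.2 ?_))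
        exact (Subgroup.mem_centralizer_singleton_iff.1 hu).symm
      obtain ⟨a, ha⟩ := h2.trans (S.centralizer_dvd hε hθ₀ hfree)
      obtain ⟨b, hb'⟩ := hpodd
      omega
    have hconj : orderOf (x⁻¹ * u * x) = orderOf u := by
      simpa using orderOf_injective (MulAut.conj x⁻¹).toMonoidHom (MulAut.conj x⁻¹).injective u
    refine orderOf_dvd_iff_pow_eq_one.1 (hconj ▸ S.sc.orderOf_dvd hx fun hmem => ?_)
    have h1 := S.sc.orderOf_eq hmem fun e => hu1 (by
      calc u = x * (x⁻¹ * u * x) * x⁻¹ := by group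
        _ = 1 := by rw [e]; group)
    rw [hconj] at h1
    have := Nat.le_of_dvd (by have := hp.out.two_le; omega) ((dvd_of_eq h1.symm).trans hord)
    omega
  have hq2 : qIdx P = 2 := by
    by_contra hq2
    have hx0 : 0 < x := by
      by_contra h0
      rw [show x = 0 by omega, zero_mul, zero_add] at hqxt
      exact hq2 hqxt
    have hdvdC : t ∣ Nat.card (Subgroup.centralizer ({s} : Set G)) := by
      rw [hcard]; exact ⟨qIdx P, by have := S.D.htm; omega⟩
    have hprime : ∀ l : ℕ, l.Prime → l ∣ t → l = 2 := by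
      intro l hl hlt
      haveI := Fact.mk hl
      obtain ⟨u, hu⟩ := exists_prime_orderOf_dvd_card' l (hlt.trans hdvdC)
      have h1 : l ∣ qIdx P := by
        rw [← hu, ← Subgroup.orderOf_coe]
        exact orderOf_dvd_of_pow_eq_one (hexp _ u.2)
      rw [hqxt] at h1
      exact (Nat.prime_dvd_prime_iff_eq hl Nat.prime_two).1
        ((Nat.dvd_add_right (hlt.mul_left x)).1 h1)
    have h4 : 4 ∣ t := by
      have h2t : 2 ∣ t := by
        have := hprime t.minFac (Nat.minFac_prime (by omega)) (Nat.minFac_dvd t)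
        rw [← this]; exact Nat.minFac_dvd t
      obtain ⟨j, hj⟩ := h2t
      have := hprime j.minFac (Nat.minFac_prime (by omega))
        ((Nat.minFac_dvd j).trans ⟨2, by omega⟩)
      obtain ⟨i, hi⟩ := this ▸ Nat.minFac_dvd j
      exact ⟨i, by omega⟩
    obtain ⟨hh', hhh'⟩ := hhodd
    have h8 : 2 ^ 3 ∣ Nat.card (Subgroup.centralizer ({s} : Set G)) := by
      rw [hcard, show p - 1 = t * qIdx P by have := S.D.htm; omega, show (2 : ℕ) ^ 3 = 4 * 2 by norm_num]
      exact mul_dvd_mul h4 ⟨h, hh⟩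
    obtain ⟨K, hK⟩ := Sylow.exists_subgroup_card_pow_prime 2 h8
    have hKsq : ∀ u ∈ K, u * u = 1 := by
      intro u hu
      have h1 : orderOf u ∣ 2 ^ 3 := hK ▸ Subgroup.orderOf_dvd_natCard _ hu
      have h2 : orderOf u ∣ qIdx P := orderOf_dvd_of_pow_eq_one (Subtype.ext (hexp _ u.2))
      have h3 : orderOf u ∣ Nat.gcd (2 ^ 3) (qIdx P) := Nat.dvd_gcd h1 h2
      have h4' : Nat.gcd (2 ^ 3) (qIdx P) = 2 := by
        rw [hh, show (2 : ℕ) ^ 3 = 2 * 4 by norm_num, Nat.gcd_mul_left]
        have : Nat.Coprime 4 h := by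
          rw [show (4 : ℕ) = 2 ^ 2 by norm_num]
          exact (Nat.coprime_primes Nat.prime_two Nat.prime_two |> fun _ =>
            Nat.Coprime.pow_left 2 ((Nat.Prime.coprime_iff_not_dvd Nat.prime_two).2 (by omega)))
        rw [this.gcd_eq_one]
      rw [h4'] at h3
      rw [← sq]
      exact orderOf_dvd_iff_pow_eq_one.1 h3
    set d : G := (c : G) ^ 2 with hd
    have hdh : d ^ h = 1 := by rw [hd, ← pow_mul, ← hh, ← hcord, pow_orderOf_eq_one]
    have hd1 : d ≠ 1 := pow_ne_one_of_lt_orderOf two_ne_zero (by rw [hcord]; omega)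
    have hsc : (c : G) * s = s * c := ((Commute.refl (c : G)).pow_right h).eq
    -- the centraliser of `s` in the normalizer
    have hCN : ∀ g ∈ NP P, g * s = s * g → g ∈ Subgroup.zpowers (c : G) := by
      intro g hg hgs
      obtain ⟨i, hi⟩ := Subgroup.mem_zpowers_iff.1 (hc₀ (QuotientGroup.mk' (PN P) ⟨g, hg⟩))
      have hy : ((c : G) ^ i)⁻¹ * g ∈ (P : Subgroup G) := by
        refine (mk_eq_one_iff P ((c ^ i)⁻¹ * ⟨g, hg⟩)).1 ?_ |> fun h' => by simpa using h'
        rw [map_mul, map_inv, map_zpow, hc, hi, inv_mul_cancel]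
      have h1 := S.sc.eq_one_of_commute hsP hy (by
        have hci : Commute ((c : G) ^ i) s := (show Commute (c : G) s from hsc).zpow_left i
        exact ((hci.inv_left).mul_left hgs).symm.eq)
      exact Subgroup.mem_zpowers_iff.2 ⟨i, inv_mul_eq_one.1 h1⟩
    have hXc : xset P (c : G) = xset P s := by
      refine Finset.eq_of_subset_of_card_le (xset_pow _ h) (le_of_eq ?_)
      rw [hXs]
      apply Nat.cast_injective (R := ℂ)
      rw [card_xset, htriv c hcP, S.cardN]
      push_cast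
      rw [show (t : ℂ) = (n : ℂ) + 1 by exact_mod_cast hnt.symm]
      ring
    have hnorm' : ∀ g ∈ Subgroup.centralizer ({s} : Set G),
        ∀ i : ℕ, g * (c : G) ^ i * g⁻¹ ∈ Subgroup.zpowers (c : G) := by
      intro g hg i
      have h1 : g * (c : G) * g⁻¹ ∈ Subgroup.zpowers (c : G) := by
        have hgm : g⁻¹ ∈ xset P (c : G) := by
          rw [hXc, mem_xset, inv_inv, Subgroup.mem_centralizer_singleton_iff.1 hg, mul_inv_cancel_right]
          exact hsN
        rw [mem_xset, inv_inv] at hgm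
        refine hCN _ hgm ?_
        have hgs : g * s = s * g := Subgroup.mem_centralizer_singleton_iff.1 hg
        have hgs' : g⁻¹ * s = s * g⁻¹ := (Commute.inv_left (show Commute g s from hgs)).eq
        exact ((show Commute g s from hgs).mul_left hsc |>.mul_left hgs').eq
      have h2 : g * (c : G) ^ i * g⁻¹ = (g * c * g⁻¹) ^ i := by rw [conj_pow]
      rw [h2]; exact pow_mem h1 i
    have hinvert : ∀ u ∈ Subgroup.centralizer ({s} : Set G), u * u = 1 → u ≠ 1 → u ≠ s →
        u * d * u⁻¹ = d⁻¹ := by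
      intro u hu hu2 hu1 hus
      have hui : u⁻¹ = u := inv_eq_of_mul_eq_one_right hu2
      set d' := u * d * u⁻¹ with hd'
      have hd'm : d' ∈ Subgroup.zpowers (c : G) := hnorm' u hu 2
      have hdm : d ∈ Subgroup.zpowers (c : G) := Subgroup.npow_mem_zpowers _ _
      have hcomm : ∀ a ∈ Subgroup.zpowers (c : G), ∀ b ∈ Subgroup.zpowers (c : G), a * b = b * a := by
        intro a ha b hb
        obtain ⟨i, rfl⟩ := Subgroup.mem_zpowers_iff.1 ha
        obtain ⟨j, rfl⟩ := Subgroup.mem_zpowers_iff.1 hb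
        exact (Commute.zpow_zpow (Commute.refl _) i j).eq
      set e := d * d' with he'
      by_contra hne
      have he1 : e ≠ 1 := fun h0 => hne (eq_inv_of_mul_eq_one_right h0)
      have hem : e ∈ Subgroup.zpowers (c : G) := mul_mem hdm hd'm
      have heh : e ^ h = 1 := by
        rw [he', (show Commute d d' from hcomm _ hdm _ hd'm).mul_pow, hdh, hd', conj_pow, hdh]
        simp
      have hue : u * e * u⁻¹ = e := by
        rw [he', show u * (d * d') * u⁻¹ = d' * (u * (u * d * u⁻¹) * u⁻¹) by rw [hd']; group,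
          show u * (u * d * u⁻¹) * u⁻¹ = (u * u) * d * (u * u)⁻¹ by group, hu2, hcomm _ hdm _ hd'm]
        simp
      have huec : u * e = e * u := mul_inv_eq_iff_eq_mul.1 hue
      have hzN : Subgroup.zpowers (c : G) ≤ NP P := Subgroup.zpowers_le.2 c.2
      have heP : e ∉ (P : Subgroup G) := fun hmem => by
        have h1 := S.sc.orderOf_eq hmem he1
        have h2 : p ∣ h := (dvd_of_eq h1.symm).trans (orderOf_dvd_of_pow_eq_one heh)
        have := Nat.le_of_dvd (by omega) h2
        have := S.sc.qIdx_lt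
        omega
      have he2 : e * e ≠ 1 := fun h0 => he1 (by
        have : e ^ h = e := by rw [hhh', pow_succ, pow_mul, sq, h0, one_pow, one_mul]
        rw [← this]; exact heh)
      have hueC : u * e ∈ Subgroup.centralizer ({s} : Set G) := by
        refine mul_mem hu (Subgroup.mem_centralizer_singleton_iff.2 ?_)
        obtain ⟨i, hi⟩ := Subgroup.mem_zpowers_iff.1 hem
        rw [← hi]
        exact ((show Commute (c : G) s from hsc).zpow_left i).eq
      have hue1 : u * e ≠ 1 := fun h0 => he2 (by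
        rw [show e = u⁻¹ from eq_inv_of_mul_eq_one_right h0, hui, hu2])
      obtain ⟨x₁, hx₁⟩ : ∃ x : G, x⁻¹ * (u * e) * x ∈ NP P := by
        by_contra! hfree
        have h2 : 2 ∣ Nat.card (Subgroup.centralizer ({u * e} : Set G)) := by
          rw [← hs2, ← Nat.card_zpowers]
          refine Subgroup.card_dvd_of_le (Subgroup.zpowers_le.2
            (Subgroup.mem_centralizer_singleton_iff.2 ?_))
          exact (Subgroup.mem_centralizer_singleton_iff.1 hueC).symm
        obtain ⟨a, ha⟩ := h2.trans (S.centralizer_dvd hε hθ₀ hfree)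
        obtain ⟨b, hb'⟩ := hpodd
        omega
      have hx₁P : x₁⁻¹ * (u * e) * x₁ ∉ (P : Subgroup G) := by
        intro hmem
        have h1 := S.sc.orderOf_eq hmem fun h0 => hue1 (by
          calc u * e = x₁ * (x₁⁻¹ * (u * e) * x₁) * x₁⁻¹ := by group
            _ = 1 := by rw [h0]; group)
        have h2 : (x₁⁻¹ * (u * e) * x₁) ^ qIdx P = 1 := by
          rw [show x₁⁻¹ * (u * e) * x₁ = MulAut.conj x₁⁻¹ (u * e) by simp, ← map_pow, hexp _ hueC,
            map_one]
        have h3 : p ∣ qIdx P := (dvd_of_eq h1.symm).trans (orderOf_dvd_of_pow_eq_one h2)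
        have := Nat.le_of_dvd hqpos h3
        have := S.sc.qIdx_lt
        omega
      have hXue : (xset P (u * e)).card = t * (qIdx P * p) := by
        apply Nat.cast_injective (R := ℂ)
        rw [card_xset, ← isClassFunction_ind (Char.trivialChar (Q P)) (u * e) x₁⁻¹, inv_inv,
          show x₁⁻¹ * (u * e) * x₁ = ((⟨_, hx₁⟩ : NP P) : G) from rfl,
          htriv ⟨_, hx₁⟩ hx₁P, S.cardN]
        push_cast
        rw [show (t : ℂ) = (n : ℂ) + 1 by exact_mod_cast hnt.symm]
        ring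
      have hXe : (xset P e).card = t * (qIdx P * p) := by
        apply Nat.cast_injective (R := ℂ)
        rw [card_xset, htriv ⟨e, hzN hem⟩ heP, S.cardN]
        push_cast
        rw [show (t : ℂ) = (n : ℂ) + 1 by exact_mod_cast hnt.symm]
        ring
      have hsub : xset P (u * e) ⊆ xset P e := by
        refine ((xset_pow _ 2).trans (xset_pow _ (hh' + 1))).trans (le_of_eq ?_)
        congr 1
        rw [(show Commute u e from huec).mul_pow, sq u, hu2, one_mul, ← pow_mul,
          show 2 * (hh' + 1) = h + 1 by omega, pow_succ, heh, one_mul]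
      have hXeq : xset P (u * e) = xset P e := Finset.eq_of_subset_of_card_le hsub (by rw [hXue, hXe])
      have h1mem : (1 : G) ∈ xset P (u * e) := by
        rw [hXeq, mem_xset, inv_one, one_mul, mul_one]; exact hzN hem
      rw [mem_xset, inv_one, one_mul, mul_one] at h1mem
      have huN : u ∈ NP P := by
        have := mul_mem h1mem (inv_mem (hzN hem))
        rwa [mul_inv_cancel_right] at this
      have huP : u ∉ (P : Subgroup G) := fun hmem => by
        have h1 := S.sc.orderOf_eq hmem hu1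
        have h2 : orderOf u ∣ 2 := orderOf_dvd_of_pow_eq_one (by rw [sq, hu2])
        rw [h1] at h2
        have := Nat.le_of_dvd two_pos h2
        have := S.sc.qIdx_lt
        omega
      obtain ⟨i, hi⟩ := Subgroup.mem_zpowers_iff.1
        (hCN u huN (Subgroup.mem_centralizer_singleton_iff.1 hu))
      have hmk : QuotientGroup.mk' (PN P) ⟨u, huN⟩ = σ := by
        refine (hinv _ ?_).resolve_left fun h0 => huP ((mk_eq_one_iff P ⟨u, huN⟩).1 h0)
        rw [← map_mul]
        refine (mk_eq_one_iff P _).2 ?_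
        show u * u ∈ (P : Subgroup G)
        rw [hu2]; exact one_mem _
      have hcomm_su : u = s := by
        have h3 : s⁻¹ * u ∈ (P : Subgroup G) := by
          refine (mk_eq_one_iff P ((c ^ h)⁻¹ * ⟨u, huN⟩)).1 ?_ |> fun h' => by simpa [hs] using h'
          rw [map_mul, map_inv, hmk, hsmk, inv_mul_cancel]
        exact (inv_mul_eq_one.1 (S.sc.eq_one_of_commute hsP h3 (by
          have hsu : s * u = u * s := (Subgroup.mem_centralizer_singleton_iff.1 hu).symm
          rw [mul_inv_cancel_left, mul_assoc, ← hsu, inv_mul_cancel_left]))).symm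
      exact hus hcomm_su
    -- three involutions cannot all invert `d`
    have hKc : Nat.card K = 8 := by rw [hK]; norm_num
    set sC : Subgroup.centralizer ({s} : Set G) :=
      ⟨s, Subgroup.mem_centralizer_singleton_iff.2 rfl⟩ with hsC
    have hpick : ∀ F : Finset (Subgroup.centralizer ({s} : Set G)), F.card ≤ 4 → ∃ u ∈ K, u ∉ F := by
      intro F hF
      by_contra! hno
      have := Set.ncard_le_ncard (s := (K : Set (Subgroup.centralizer ({s} : Set G)))) (t := (F : Set _))
        (fun u hu => hno u hu)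
      rw [← Nat.card_coe_set_eq, Set.ncard_coe_finset] at this
      simp only [SetLike.coe_sort_coe, hKc] at this
      omega
    obtain ⟨u₁, hu₁K, hu₁⟩ := hpick {1, sC} ((Finset.card_le_two).trans (by norm_num))
    obtain ⟨u₂, hu₂K, hu₂⟩ := hpick {1, sC, u₁, u₁ * sC} Finset.card_le_four
    simp only [Finset.mem_insert, Finset.mem_singleton, not_or] at hu₁ hu₂
    have hcoe : ∀ u : Subgroup.centralizer ({s} : Set G), u ≠ 1 → u ≠ sC → u ∈ K →
        (u : G) * d * (u : G)⁻¹ = d⁻¹ := fun u h1 h2 h3 =>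
      hinvert u u.2 (congrArg Subtype.val (hKsq u h3)) (fun e => h1 (Subtype.ext e))
        (fun e => h2 (Subtype.ext e))
    have hi1 := hcoe u₁ hu₁.1 hu₁.2 hu₁K
    have hi2 := hcoe u₂ hu₂.1 hu₂.2.1 hu₂K
    have hu₁inv : u₁⁻¹ = u₁ := inv_eq_of_mul_eq_one_right (hKsq u₁ hu₁K)
    have hi3 := hcoe (u₁ * u₂) (fun e => hu₂.2.2.1 (by
        rw [← eq_inv_of_mul_eq_one_right e] at hu₁inv; exact hu₁inv))
      (fun e => hu₂.2.2.2 (by rw [← e, ← mul_assoc, hKsq u₁ hu₁K, one_mul]))
      (mul_mem hu₁K hu₂K)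
    have h4' : d = d⁻¹ := by
      rw [Subgroup.coe_mul] at hi3
      calc d = (d⁻¹)⁻¹ := (inv_inv d).symm
        _ = ((u₁ : G) * d * (u₁ : G)⁻¹)⁻¹ := by rw [hi1]
        _ = (u₁ : G) * d⁻¹ * (u₁ : G)⁻¹ := by group
        _ = (u₁ : G) * ((u₂ : G) * d * (u₂ : G)⁻¹) * (u₁ : G)⁻¹ := by rw [hi2]
        _ = (u₁ : G) * u₂ * d * ((u₁ : G) * u₂)⁻¹ := by group
        _ = d⁻¹ := hi3
    have hdd : d * d = 1 := by nth_rewrite 2 [h4']; exact mul_inv_cancel d
    refine hd1 ?_
    have h5 : d ^ h = d := by rw [hhh', pow_succ, pow_mul, sq, hdd, one_pow, one_mul]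
    rw [← h5]; exact hdh
  refine ⟨hq2, hnt, s, hs2, hcard, fun u hu => ?_⟩
  have husq : u * u = 1 := by
    have := hexp u hu
    rwa [hq2, sq] at this
  refine ⟨husq, fun hu1 => ?_⟩
  obtain ⟨x₂, hx₂⟩ : ∃ x : G, x⁻¹ * u * x ∈ NP P := by
    by_contra! hfree
    have h2 : 2 ∣ Nat.card (Subgroup.centralizer ({u} : Set G)) := by
      rw [← hs2, ← Nat.card_zpowers]
      refine Subgroup.card_dvd_of_le (Subgroup.zpowers_le.2
        (Subgroup.mem_centralizer_singleton_iff.2 ?_))
      exact (Subgroup.mem_centralizer_singleton_iff.1 hu).symm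
    obtain ⟨a, ha⟩ := h2.trans (S.centralizer_dvd hε hθ₀ hfree)
    obtain ⟨b, hb'⟩ := hpodd
    omega
  have hsq : (x₂⁻¹ * u * x₂) * (x₂⁻¹ * u * x₂) = 1 := by
    calc _ = x₂⁻¹ * (u * u) * x₂ := by group
      _ = 1 := by rw [husq]; group
  have hnotP : x₂⁻¹ * u * x₂ ∉ (P : Subgroup G) := fun hmem => by
    have h1 := S.sc.orderOf_eq hmem fun e => hu1 (by
      calc u = x₂ * (x₂⁻¹ * u * x₂) * x₂⁻¹ := by group
        _ = 1 := by rw [e]; group)
    have h2 : p ∣ 2 := h1.symm.dvd.trans (orderOf_dvd_of_pow_eq_one (by rw [sq, hsq]))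
    have := Nat.le_of_dvd two_pos h2
    have := S.sc.qIdx_lt
    omega
  have hmk : QuotientGroup.mk' (PN P) ⟨_, hx₂⟩ = σ := by
    refine (hinv _ ?_).resolve_left fun h0 => hnotP ((mk_eq_one_iff P ⟨_, hx₂⟩).1 h0)
    rw [← map_mul]
    refine (mk_eq_one_iff P _).2 ?_
    show (x₂⁻¹ * u * x₂) * (x₂⁻¹ * u * x₂) ∈ (P : Subgroup G)
    rw [hsq]; exact one_mem _
  have hy : s⁻¹ * (x₂⁻¹ * u * x₂) ∈ (P : Subgroup G) := by
    refine (mk_eq_one_iff P ((c ^ h)⁻¹ * ⟨_, hx₂⟩)).1 ?_ |> fun h' => by simpa [hs] using h'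
    rw [map_mul, map_inv, hmk, hsmk, inv_mul_cancel]
  obtain ⟨y', -, hy'⟩ := S.sc.exists_conj_eq hsN hsP hy
  rw [mul_inv_cancel_left] at hy'
  refine isConj_iff.2 ⟨x₂ * y', ?_⟩
  calc x₂ * y' * s * (x₂ * y')⁻¹ = x₂ * (y' * s * y'⁻¹) * x₂⁻¹ := by group
    _ = u := by rw [hy']; group

end Setup

end Cfsg.Agent.BrauerPSL
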