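import Cfsg.Agent.Lib.BrauerPSL.SelfCentral

/-!
# The characters induced from `N_G(P)` in terms of the principal block
-/

set_option autoImplicit false
set_option linter.style.haveILetI false
set_option linter.unusedSectionVars false

namespace Cfsg.Agent.BrauerPSL

open Cfsg Cfsg.Agent
open scoped ComplexConjugate Classical

universe u

variable {G : Type u} [Group G] [Fintype G] {p : ℕ} [hp : Fact p.Prime] {P : Sylow p G}

/-- The situation after the degree analysis. -/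
structure Setup (P : Sylow p G) (n t : ℕ) where
  sc : SelfCent P
  perf : commutator G = ⊤
  card_sylow : Nat.card (Sylow p G) = 1 + n * p
  one_le : 1 ≤ n
  D : BData P (qIdx P) t
  t_pos : 0 < t
  neg_ne : D.Neg.Nonempty
  pos_deg : ∀ χ ∈ D.Pos, charDegree χ.1 = 1 + n * p
  neg_deg : ∀ χ ∈ D.Neg, charDegree χ.1 + 1 = p
  theta : (D.ε = 1 ∧ 2 ≤ t ∧ ∀ θ ∈ D.Θ, charDegree θ.1 = qIdx P) ∨
    (D.ε = -1 ∧ ∀ θ ∈ D.Θ, t * charDegree θ.1 = 1 + n * p)

section General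

/-- A character whose multiplicities fill up its degree. -/
theorem eq_sum_of_degree {Φ : G → ℂ} (hΦ : IsCharacter G Φ) (s : Finset (IrrCharacter G))
    (c : IrrCharacter G → ℂ) (hc : ∀ χ ∈ s, classInner Φ χ.1 = c χ)
    (h1 : Φ 1 = ∑ χ ∈ s, c χ * χ.1 1) (g : G) : Φ g = ∑ χ ∈ s, c χ * χ.1 g := by
  obtain ⟨m, hm, hm'⟩ := Char.IsCharacter.exists_decomp hΦ
  have hsplit : ∀ x : G, Φ x = ∑ χ ∈ s, c χ * χ.1 x + ∑ χ ∈ sᶜ, (m χ : ℂ) * χ.1 x := by
    intro x
    conv_lhs => rw [hm]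
    rw [Finset.sum_apply, ← Finset.sum_add_sum_compl s]
    congr 1
    exact Finset.sum_congr rfl fun χ hχ => by
      rw [Pi.smul_apply, smul_eq_mul, ← hm' χ, hc χ hχ]
  have h0 : ∑ χ ∈ sᶜ, m χ * charDegree χ.1 = 0 := by
    apply Nat.cast_injective (R := ℂ)
    push_cast
    have := hsplit 1
    rw [h1, left_eq_add] at this
    rw [← this]
    exact Finset.sum_congr rfl fun χ _ => by rw [Char.charDegree_cast]
  rw [hsplit g, Finset.sum_eq_zero (s := sᶜ) fun χ hχ => ?_, add_zero]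
  have := Finset.sum_eq_zero_iff.1 h0 χ hχ
  rw [Nat.mul_eq_zero] at this
  rw [this.resolve_right (Char.charDegree_pos χ).ne', Nat.cast_zero, zero_mul]

theorem sum_degree_le {Φ : G → ℂ} (hΦ : IsCharacter G Φ) (s : Finset (IrrCharacter G))
    (hne : ∀ χ ∈ s, classInner Φ χ.1 ≠ 0) {d : ℕ} (hd : Φ 1 = d) :
    ∑ χ ∈ s, charDegree χ.1 ≤ d := by
  obtain ⟨m, hm, hm'⟩ := Char.IsCharacter.exists_decomp hΦ
  have h1 : d = ∑ χ, m χ * charDegree χ.1 := by
    apply Nat.cast_injective (R := ℂ)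
    rw [← hd, Nat.cast_sum]
    conv_lhs => rw [hm]
    rw [Finset.sum_apply]
    exact Finset.sum_congr rfl fun χ _ => by
      rw [Pi.smul_apply, smul_eq_mul, Nat.cast_mul, Char.charDegree_cast]
  rw [h1]
  calc ∑ χ ∈ s, charDegree χ.1 ≤ ∑ χ ∈ s, m χ * charDegree χ.1 :=
        Finset.sum_le_sum fun χ hχ => Nat.le_mul_of_pos_left _ (Nat.pos_of_ne_zero fun h0 =>
          hne χ hχ (by rw [hm' χ, h0, Nat.cast_zero]))
    _ ≤ _ := Finset.sum_le_sum_of_subset (Finset.subset_univ s)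

theorem SelfCent.mult_eq_of_vanish (h : SelfCent P) {χ : G → ℂ}
    (h0 : ∀ g : NP P, (g : G) ∉ (P : Subgroup G) → χ g = 0) (l l' : IrrCharacter (Q P)) :
    mult P χ l = mult P χ l' := by
  rw [mult, mult, classInner, classInner]
  congr 1
  refine Finset.sum_congr rfl fun g _ => ?_
  by_cases hg : (g : G) ∈ (P : Subgroup G)
  · rw [lam_of_mem P h.comm_Q l hg, lam_of_mem P h.comm_Q l' hg]
  · rw [h0 g hg, zero_mul, zero_mul]

theorem classInner_lam (l l' : IrrCharacter (Q P)) :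
    classInner (lam P l) (lam P l') = if l = l' then 1 else 0 := by
  have hs := QuotientGroup.mk'_surjective (PN P)
  have h := Char.classInner_irr (G := NP P)
    ⟨lam P l, Char.IsIrrCharacter.comp_surjective l.2 (QuotientGroup.mk' (PN P)) hs⟩
    ⟨lam P l', Char.IsIrrCharacter.comp_surjective l'.2 (QuotientGroup.mk' (PN P)) hs⟩
  refine h.trans (@if_congr _ _ _ (_) (_) _ _ _ _ ?_ rfl rfl)
  refine ⟨fun e => Subtype.ext (funext fun a => ?_), fun e => by subst e; rfl⟩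
  obtain ⟨g, rfl⟩ := hs a
  exact congrFun (congrArg Subtype.val e) g

theorem lam_trivial (g : NP P) : lam P (Char.trivialChar (Q P)) g = 1 := rfl

theorem mult_one (l : IrrCharacter (Q P)) :
    mult P (fun _ => 1) l = if Char.trivialChar (Q P) = l then 1 else 0 :=
  classInner_lam (Char.trivialChar (Q P)) l

theorem SelfCent.mult_const_mul (_h : SelfCent P) (c : ℂ) (χ : G → ℂ) (l : IrrCharacter (Q P)) :
    mult P (fun g => c * χ g) l = c * mult P χ l :=
  mult_smul c χ l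

/-- A character whose average over `P` vanishes has no constituent trivial on `P`. -/
theorem SelfCent.mult_eq_zero_of_avg (h : SelfCent P) {χ : G → ℂ} (hχ : IsCharacter G χ)
    (h0 : avg P χ 1 = 0) (l : IrrCharacter (Q P)) : mult P χ l = 0 := by
  choose m hm using fun l => exists_nat_mult (P := P) hχ l
  have h1 := h.sum_mult χ
  simp only [hm, h0, ← Nat.cast_sum, Nat.cast_eq_zero, Finset.sum_eq_zero_iff, Finset.mem_univ,
    true_implies] at h1
  rw [hm, h1 l, Nat.cast_zero]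

theorem SelfCent.avg_const (h : SelfCent P) {χ : G → ℂ} {c : ℂ}
    (hc : ∀ y ∈ (P : Subgroup G), y ≠ 1 → χ y = c) :
    avg P χ 1 = (p : ℂ)⁻¹ * (χ 1 + ((p : ℂ) - 1) * c) := by
  rw [avg_one, ← Finset.add_sum_erase _ _ (Finset.mem_univ (1 : (P : Subgroup G))),
    Finset.sum_congr (s₁ := Finset.univ.erase (1 : (P : Subgroup G))) rfl
      fun y hy => hc ((y : (P : Subgroup G)) : G) y.2 fun e => Finset.ne_of_mem_erase hy (Subtype.ext e),
    Finset.sum_const, Finset.card_erase_of_mem (Finset.mem_univ _), Finset.card_univ,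
    ← Nat.card_eq_fintype_card, h.card, nsmul_eq_mul, OneMemClass.coe_one,
    Nat.cast_sub hp.out.pos, Nat.cast_one]

end General

namespace Setup

variable {n t : ℕ} (S : Setup P n t)
include S

theorem hpne : (p : ℂ) ≠ 0 := Nat.cast_ne_zero.2 hp.out.ne_zero

theorem htq : (t : ℂ) * qIdx P + 1 = p := by exact_mod_cast S.D.htm

theorem tpos' : (t : ℂ) ≠ 0 := Nat.cast_ne_zero.2 S.t_pos.ne'

theorem cardN : Nat.card (NP P) = qIdx P * p := S.sc.card_NP

theorem mult_neg {χ : IrrCharacter G} (hχ : χ ∈ S.D.Neg) (l : IrrCharacter (Q P)) :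
    mult P χ.1 l = 0 := by
  refine S.sc.mult_eq_zero_of_avg (Char.irr_isCharacter χ) ?_ l
  rw [S.sc.avg_const (S.D.neg_val χ hχ), ← Char.charDegree_cast]
  have h : ((charDegree χ.1 : ℕ) : ℂ) + 1 = p := by exact_mod_cast S.neg_deg χ hχ
  rw [show ((charDegree χ.1 : ℕ) : ℂ) + ((p : ℂ) - 1) * -1 = 0 by linear_combination h, mul_zero]

theorem neg_apply {χ : IrrCharacter G} (hχ : χ ∈ S.D.Neg) (g : NP P)
    (hg : (g : G) ∉ (P : Subgroup G)) : χ.1 g = 0 := by
  rw [S.sc.apply_eq_sum (Char.IsCharacter.isClassFunction (Char.irr_isCharacter χ)) g hg]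
  simp [S.mult_neg hχ]

theorem avg_pos {χ : IrrCharacter G} (hχ : χ ∈ S.D.Pos) : avg P χ.1 1 = (n : ℂ) + 1 := by
  rw [S.sc.avg_const (S.D.pos_val χ hχ), ← Char.charDegree_cast, S.pos_deg χ hχ]
  push_cast
  field_simp [S.hpne]
  ring

theorem sum_avg_theta {θ₀ : IrrCharacter G} (hθ₀ : θ₀ ∈ S.D.Θ) :
    ∑ θ ∈ S.D.Θ, avg P θ.1 1 =
      (p : ℂ)⁻¹ * ((t : ℂ) * charDegree θ₀.1 - ((p : ℂ) - 1) * S.D.ε) := by
  simp only [avg_one, ← Finset.mul_sum]
  congr 1
  rw [Finset.sum_comm, ← Finset.add_sum_erase _ _ (Finset.mem_univ (1 : (P : Subgroup G))),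
    OneMemClass.coe_one,
    Finset.sum_congr (s₁ := Finset.univ.erase (1 : (P : Subgroup G))) rfl
      (fun y hy => S.D.sum_val ((y : (P : Subgroup G)) : G) y.2
      fun e => Finset.ne_of_mem_erase hy (Subtype.ext e)),
    Finset.sum_congr rfl (fun θ hθ => show θ.1 1 = ((charDegree θ₀.1 : ℕ) : ℂ) by
      rw [Char.charDegree_cast]; exact S.D.agree θ hθ θ₀ hθ₀ 1 isPRegular_one),
    Finset.sum_const, Finset.sum_const, S.D.cardΘ, Finset.card_erase_of_mem (Finset.mem_univ _),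
    Finset.card_univ, ← Nat.card_eq_fintype_card, S.sc.card, nsmul_eq_mul, nsmul_eq_mul,
    Nat.cast_sub hp.out.pos]
  push_cast
  ring

/-- The master identity. -/
theorem mult_eq (l : IrrCharacter (Q P)) :
    (t : ℂ) * ((if Char.trivialChar (Q P) = l then 1 else 0) + ∑ χ ∈ S.D.Pos, mult P χ.1 l) -
      (S.D.ε : ℂ) * ∑ θ ∈ S.D.Θ, mult P θ.1 l = t := by
  set R : G → ℂ := fun g => (t : ℂ) * (1 + ∑ χ ∈ S.D.Pos, χ.1 g - ∑ χ ∈ S.D.Neg, χ.1 g) -
    (S.D.ε : ℂ) * ∑ θ ∈ S.D.Θ, θ.1 g with hR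
  obtain ⟨θ₀, hθ₀⟩ : S.D.Θ.Nonempty := Finset.card_pos.1 (by rw [S.D.cardΘ]; exact S.t_pos)
  have hreg : ∀ g, IsPRegular p g → R g = 0 := by
    intro g hg
    rw [hR]
    simp only
    rw [Finset.sum_congr (s₁ := S.D.Θ) rfl (fun θ hθ => S.D.agree θ hθ θ₀ hθ₀ g hg),
      Finset.sum_const, S.D.cardΘ, nsmul_eq_mul, ← S.D.relation θ₀ hθ₀ g hg]
    ring
  have hy : ∀ y ∈ (P : Subgroup G), y ≠ 1 → R y = p := by
    intro y hy hy1
    rw [hR]
    simp only
    rw [Finset.sum_congr rfl (fun χ hχ => S.D.pos_val χ hχ y hy hy1),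
      Finset.sum_congr rfl (fun χ hχ => S.D.neg_val χ hχ y hy hy1), S.D.sum_val y hy hy1,
      Finset.sum_const, Finset.sum_const, nsmul_eq_mul, nsmul_eq_mul]
    have h1 : (S.D.Pos.card : ℂ) + S.D.Neg.card + 1 = qIdx P := by exact_mod_cast S.D.card_sum
    have h2 : (S.D.ε : ℂ) * S.D.ε = 1 := by rcases S.D.hε with h | h <;> rw [h] <;> simp
    linear_combination (t : ℂ) * h1 + h2 + S.htq
  have h := S.sc.qIdx_mul_mult_of_singular (p : ℂ) (hreg 1 isPRegular_one) hy hreg l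
  have h2 : mult P R l = (t : ℂ) * ((if Char.trivialChar (Q P) = l then 1 else 0) +
      ∑ χ ∈ S.D.Pos, mult P χ.1 l) - (S.D.ε : ℂ) * ∑ θ ∈ S.D.Θ, mult P θ.1 l := by
    have e : R = (t : ℂ) • ((fun _ : G => (1 : ℂ)) + ∑ χ ∈ S.D.Pos, χ.1 +
        (-1 : ℂ) • ∑ χ ∈ S.D.Neg, χ.1) + (-(S.D.ε : ℂ)) • ∑ θ ∈ S.D.Θ, θ.1 := by
      funext g
      simp only [hR, Pi.add_apply, Pi.smul_apply, smul_eq_mul, Finset.sum_apply]
      ring
    rw [e, mult_add, mult_smul, mult_add, mult_add, mult_one, mult_smul, mult_smul, mult_sum,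
      mult_sum, mult_sum, Finset.sum_eq_zero (fun χ hχ => S.mult_neg hχ l)]
    ring
  rw [← h2]
  have hq : (qIdx P : ℂ) ≠ 0 := Nat.cast_ne_zero.2 (qIdx_pos P).ne'
  refine mul_left_cancel₀ (mul_ne_zero hq S.hpne) ?_
  linear_combination h - (p : ℂ) * S.htq

theorem ind_one (l : IrrCharacter (Q P)) : ind P l 1 = 1 + (n : ℂ) * p := by
  rw [S.sc.ind_one l, S.card_sylow]; push_cast; ring

end Setup

end Cfsg.Agent.BrauerPSL
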