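import Cfsg.Agent.S4702
import Cfsg.Agent.Lib.Char.Orthogonality
import Cfsg.Agent.Lib.PSL2.SylowPrime

/-!
# Recognition of `SL(2, 2^a)` by an elementary abelian involution centraliser
-/

set_option autoImplicit false
set_option linter.style.haveILetI false
set_option linter.unusedSectionVars false

namespace Cfsg.Agent.BrauerPSL

open Cfsg Cfsg.Agent
open scoped Classical

universe u

variable {G : Type u} [Group G] [Finite G]

/-- A simple group of order `p (p - 1) (p - 2)` with an elementary abelian involution centraliser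
of order `p - 1`, all of whose involutions are conjugate, is `SL(2, 2^a)` with `p = 2^a + 1`. -/
theorem exists_sl_two [IsSimpleGroup G] {p : ℕ} (hp : p.Prime) (h5 : 5 ≤ p)
    (hG : Nat.card G = p * ((p - 1) * (p - 2))) {s : G} (hs : orderOf s = 2)
    (hcard : Nat.card (Subgroup.centralizer ({s} : Set G)) = p - 1)
    (hC : ∀ u ∈ Subgroup.centralizer ({s} : Set G), u * u = 1 ∧ (u ≠ 1 → IsConj s u)) :
    ∃ (a : ℕ) (F : Type) (_ : Field F) (_ : Fintype F), Fintype.card F = 2 ^ a ∧ p = 2 ^ a + 1 ∧
      Nonempty (G ≃* Matrix.SpecialLinearGroup (Fin 2) F) := by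
  classical
  haveI : Fact (Nat.Prime 2) := ⟨Nat.prime_two⟩
  haveI : Fintype G := Fintype.ofFinite G
  set S := Subgroup.centralizer ({s} : Set G) with hS
  have hpodd : Odd p := hp.odd_of_ne_two (by omega)
  have hs1 : s ≠ 1 := fun e => by rw [e, orderOf_one] at hs; omega
  have hSc : ∀ a ∈ S, ∀ b ∈ S, a * b = b * a := by
    intro a ha b hb
    have h1 := (hC _ (mul_mem ha hb)).1
    have hai : a⁻¹ = a := inv_eq_of_mul_eq_one_right (hC a ha).1
    have hbi : b⁻¹ = b := inv_eq_of_mul_eq_one_right (hC b hb).1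
    calc a * b = (a * b)⁻¹ := eq_inv_of_mul_eq_one_left h1
      _ = b * a := by rw [mul_inv_rev, hai, hbi]
  -- centralisers of the involutions of `S`
  have hCu : ∀ u ∈ S, u ≠ 1 → Subgroup.centralizer ({u} : Set G) = S := by
    intro u hu hu1
    have h1 := Char.card_centralizer_mul_card_conj s
    have h2 := Char.card_centralizer_mul_card_conj u
    have heq : Nat.card {x : G // IsConj u x} = Nat.card {x : G // IsConj s x} :=
      Nat.card_congr (Equiv.subtypeEquivRight fun x =>
        ⟨fun h => ((hC u hu).2 hu1).trans h, fun h => ((hC u hu).2 hu1).symm.trans h⟩)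
    rw [heq, ← h1] at h2
    have h3 := Nat.eq_of_mul_eq_mul_right (show 0 < Nat.card {x : G // IsConj s x} by
      haveI : Nonempty {x : G // IsConj s x} := ⟨⟨s, IsConj.refl s⟩⟩
      exact Nat.card_pos) h2
    refine (Subgroup.eq_of_le_of_card_ge ?_ h3.le).symm
    exact fun a ha => Subgroup.mem_centralizer_singleton_iff.2 (hSc a ha u hu)
  have hsS : s ∈ S := Subgroup.mem_centralizer_singleton_iff.2 rfl
  set N : Subgroup G := Subgroup.normalizer (S : Set G) with hN
  have hSN : S ≤ N := Subgroup.le_normalizer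
  have hmap : ∀ g u : G, g ∈ N → u ∈ S → g * u * g⁻¹ ∈ S := fun g u hg hu =>
    (Subgroup.mem_normalizer_iff.1 hg u).1 hu
  have hmem : ∀ g u : G, u ∈ S → u ≠ 1 → g * u * g⁻¹ ∈ S → g ∈ N := by
    intro g u hu hu1 hgu
    have hgu1 : g * u * g⁻¹ ≠ 1 := fun e => hu1 (by
      calc u = g⁻¹ * (g * u * g⁻¹) * g := by group
        _ = 1 := by rw [e]; group)
    refine Subgroup.mem_normalizer_iff.2 fun x => ?_
    rw [← hCu u hu hu1]
    conv_rhs => rw [hCu u hu hu1, ← hCu _ hgu hgu1]
    rw [Subgroup.mem_centralizer_singleton_iff, Subgroup.mem_centralizer_singleton_iff]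
    constructor
    · intro hx
      calc g * x * g⁻¹ * (g * u * g⁻¹) = g * (x * u) * g⁻¹ := by group
        _ = g * (u * x) * g⁻¹ := by rw [hx]
        _ = _ := by group
    · intro hx
      calc x * u = g⁻¹ * (g * x * g⁻¹ * (g * u * g⁻¹)) * g := by group
        _ = g⁻¹ * (g * u * g⁻¹ * (g * x * g⁻¹)) * g := by rw [hx]
        _ = _ := by group
  -- the order of the normalizer
  set sN : N := ⟨s, hSN hsS⟩ with hsN
  have hclass : Nat.card {x : N // IsConj sN x} = p - 2 := by
    have e : {x : N // IsConj sN x} ≃ {x : S // x ≠ 1} :=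
      { toFun := fun x => ⟨⟨x.1, by
          obtain ⟨g, hg⟩ := isConj_iff.1 x.2
          rw [← hg]; exact hmap _ _ g.2 hsS⟩, fun e => by
          obtain ⟨g, hg⟩ := isConj_iff.1 x.2
          have h1 : (x.1 : G) = 1 := congrArg Subtype.val e
          have h2 : (g : G) * s * (g : G)⁻¹ = x.1 := congrArg Subtype.val hg
          exact hs1 (by
            calc s = (g : G)⁻¹ * ((g : G) * s * (g : G)⁻¹) * g := by group
              _ = 1 := by rw [h2, h1]; group)⟩
        invFun := fun u => ⟨⟨u.1, hSN u.1.2⟩, by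
          obtain ⟨g, hg⟩ := isConj_iff.1 ((hC u.1 u.1.2).2 fun e => u.2 (Subtype.ext e))
          exact isConj_iff.2 ⟨⟨g, hmem g s hsS hs1 (hg ▸ u.1.2)⟩, Subtype.ext hg⟩⟩
        left_inv := fun x => rfl
        right_inv := fun u => rfl }
    rw [Nat.card_congr e, Nat.card_eq_fintype_card, Fintype.card_subtype_compl,
      Fintype.card_subtype_eq, ← Nat.card_eq_fintype_card, hcard]
    omega
  have hNcard : Nat.card N = (p - 1) * (p - 2) := by
    have h1 := Char.card_centralizer_mul_card_conj sN
    rw [hclass] at h1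
    rw [← h1]
    congr 1
    rw [← hcard]
    exact Nat.card_congr
      { toFun := fun x => ⟨x.1, Subgroup.mem_centralizer_singleton_iff.2
          (congrArg Subtype.val (Subgroup.mem_centralizer_singleton_iff.1 x.2))⟩
        invFun := fun x => ⟨⟨x.1, hSN x.2⟩, Subgroup.mem_centralizer_singleton_iff.2
          (Subtype.ext (Subgroup.mem_centralizer_singleton_iff.1 x.2))⟩
        left_inv := fun x => rfl
        right_inv := fun x => rfl }
  -- the involutions of the normalizer
  have hinvN : ∀ v ∈ N, v * v = 1 → v ∈ S := by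
    intro v hv hv2
    have hSidx : ¬ 2 ∣ S.index := by
      have h1 := S.card_mul_index
      rw [hG, hcard] at h1
      have h2 : S.index = p * (p - 2) :=
        Nat.eq_of_mul_eq_mul_left (show 0 < p - 1 by omega) (by rw [h1]; ring)
      rw [h2, Nat.Prime.dvd_mul Nat.prime_two]
      obtain ⟨i, hi⟩ := hpodd
      omega
    have hS2 : IsPGroup 2 S := fun x => ⟨1, Subtype.ext (by
      rw [Subgroup.coe_pow, pow_one, sq]; exact (hC x x.2).1)⟩
    have hv2g : IsPGroup 2 (Subgroup.zpowers v) := by
      intro x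
      refine ⟨1, Subtype.ext ?_⟩
      obtain ⟨i, hi⟩ := Subgroup.mem_zpowers_iff.1 x.2
      rw [Subgroup.coe_pow, pow_one, Subgroup.coe_one, ← hi, sq,
        ← (Commute.refl v).mul_zpow, hv2, one_zpow]
    have hle : Subgroup.zpowers v ≤ Subgroup.normalizer (S : Set G) := Subgroup.zpowers_le.2 hv
    have hmax : S ⊔ Subgroup.zpowers v = S :=
      (hS2.toSylow hSidx).is_maximal' (hS2.to_sup_of_normal_left' hv2g hle) le_sup_left
    have := (le_sup_right : Subgroup.zpowers v ≤ S ⊔ Subgroup.zpowers v)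
    rw [hmax] at this
    exact this (Subgroup.mem_zpowers v)
  have hNidx : N.index = p := by
    have h1 := N.card_mul_index
    rw [hNcard, hG] at h1
    exact Nat.eq_of_mul_eq_mul_left (Nat.mul_pos (by omega : 0 < p - 1) (by omega : 0 < p - 2))
      (by rw [h1]; ring)
  -- the action on the cosets
  set Ω := G ⧸ N with hΩ
  haveI : Fintype Ω := Fintype.ofFinite Ω
  have hΩcard : Fintype.card Ω = p := by
    rw [← Nat.card_eq_fintype_card, ← Subgroup.index_eq_card, hNidx]
  set o : Ω := ((1 : G) : Ω) with ho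
  have hsemi : ∀ u ∈ S, ∀ x : Ω, x ≠ o → u • x = x → u = 1 := by
    intro u hu x hx hux
    by_contra hu1
    induction x using QuotientGroup.induction_on with
    | H g =>
      have h1 : g⁻¹ * u * g ∈ N := by
        rw [MulAction.Quotient.smul_coe, smul_eq_mul, eq_comm, QuotientGroup.eq] at hux
        rwa [mul_assoc]
      have h2 : (g⁻¹ * u * g) * (g⁻¹ * u * g) = 1 := by
        calc _ = g⁻¹ * (u * u) * g := by group
          _ = 1 := by rw [(hC u hu).1]; group
      have h3 := hinvN _ h1 h2
      refine hx ?_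
      rw [ho, QuotientGroup.eq]
      have := hmem g⁻¹ u hu hu1 (by rwa [inv_inv])
      simpa using this
  have htrans : ∀ x y : Ω, x ≠ o → y ≠ o → ∃ u ∈ S, u • x = y := by
    intro x y hx hy
    have hfixo : ∀ u ∈ S, u • o = o := by
      intro u hu
      rw [ho, MulAction.Quotient.smul_coe, smul_eq_mul, mul_one, QuotientGroup.eq, mul_one]
      exact inv_mem (hSN hu)
    let f : S → {z : Ω // z ≠ o} := fun u => ⟨(u : G) • x, fun e => hx (by
      have := congrArg ((u : G)⁻¹ • ·) e
      simpa [hfixo _ (inv_mem u.2)] using this)⟩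
    have hf : Function.Injective f := by
      intro a b hab
      have h1 : (a : G) • x = (b : G) • x := congrArg Subtype.val hab
      have h2 := hsemi _ (mul_mem (inv_mem b.2) a.2) x hx (by rw [mul_smul, h1, inv_smul_smul])
      exact Subtype.ext (inv_mul_eq_one.1 h2).symm
    have hfb : Function.Bijective f := by
      refine (Fintype.bijective_iff_injective_and_card f).2 ⟨hf, ?_⟩
      rw [← Nat.card_eq_fintype_card, hcard, Fintype.card_subtype_compl, Fintype.card_subtype_eq,
        hΩcard]
    obtain ⟨u, hu⟩ := hfb.2 ⟨y, hy⟩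
    exact ⟨u, u.2, congrArg Subtype.val hu⟩
  have hthree : ∀ g : G, ∀ a b c : Ω, a ≠ b → a ≠ c → b ≠ c →
      g • a = a → g • b = b → g • c = c → g = 1 := by
    intro g a b c hab hac hbc ha hb hc
    obtain ⟨k, hk⟩ := MulAction.exists_smul_eq G a o
    set g' := k * g * k⁻¹ with hg'
    have hfix : ∀ z : Ω, g • z = z → g' • (k • z) = k • z := by
      intro z hz
      rw [hg', mul_smul, mul_smul, inv_smul_smul, hz]
    have h1 := hfix a ha
    rw [hk] at h1
    have hgN : g' ∈ N := by
      rw [ho, MulAction.Quotient.smul_coe, smul_eq_mul, mul_one, QuotientGroup.eq, mul_one] at h1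
      simpa using inv_mem h1
    have hbo : k • b ≠ o := by rw [← hk]; exact fun e => hab (smul_left_cancel k e).symm
    have hco : k • c ≠ o := by rw [← hk]; exact fun e => hac (smul_left_cancel k e).symm
    obtain ⟨u, hu, hub⟩ := htrans (k • b) (k • c) hbo hco
    have hu1 : u ≠ 1 := fun e => by
      rw [e, one_smul] at hub
      exact hbc (smul_left_cancel k hub)
    have h4 : (g' * u * g'⁻¹) • (k • b) = u • (k • b) := by
      rw [mul_smul, mul_smul, show g'⁻¹ • (k • b) = k • b from
        inv_smul_eq_iff.2 (hfix b hb).symm, hub, hfix c hc]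
    have h5 : (u⁻¹ * (g' * u * g'⁻¹)) • (k • b) = k • b := by rw [mul_smul, h4, inv_smul_smul]
    have h6 := hsemi _ (mul_mem (inv_mem hu) (hmap _ _ hgN hu)) _ hbo h5
    have h7 : g' ∈ Subgroup.centralizer ({u} : Set G) := by
      refine Subgroup.mem_centralizer_singleton_iff.2 ?_
      have := inv_mul_eq_one.1 h6
      calc g' * u = g' * u * g'⁻¹ * g' := by group
        _ = u * g' := by rw [← this]
    rw [hCu u hu hu1] at h7
    have h8 := hsemi g' h7 (k • b) hbo (hfix b hb)
    calc g = k⁻¹ * g' * k := by rw [hg']; group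
      _ = 1 := by rw [h8]; group
  -- three-transitivity by counting
  have hinj : Function.Injective (MulAction.toPermHom G Ω) := by
    rw [← MonoidHom.ker_eq_bot_iff]
    refine ((MulAction.toPermHom G Ω).normal_ker.eq_bot_or_eq_top).resolve_right fun htop => ?_
    have : ∀ x : Ω, x = o := fun x => by
      obtain ⟨g, hg⟩ := MulAction.exists_smul_eq G o x
      have h1 : g ∈ (MulAction.toPermHom G Ω).ker := htop ▸ Subgroup.mem_top g
      have h2 := Equiv.ext_iff.1 h1 o
      rw [← hg]; exact h2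
    have hsub : Fintype.card Ω ≤ 1 := Fintype.card_le_one_iff.2 fun a b => (this a).trans (this b).symm
    omega
  set Γ := (MulAction.toPermHom G Ω).range with hΓ
  have hfixΓ : ∀ g : Γ, 3 ≤ Nat.card (MulAction.fixedBy Ω g) → g = 1 := by
    rintro ⟨_, g, rfl⟩ h3
    rw [Nat.card_eq_fintype_card] at h3
    obtain ⟨a, b, c, hab, hac, hbc⟩ := Fintype.two_lt_card_iff.1 (by omega :
      2 < Fintype.card (MulAction.fixedBy Ω (⟨_, g, rfl⟩ : Γ)))
    have hg1 : g = 1 := hthree g a b c (fun e => hab (Subtype.ext e)) (fun e => hac (Subtype.ext e))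
      (fun e => hbc (Subtype.ext e)) a.2 b.2 c.2
    subst hg1; exact Subtype.ext (map_one (MulAction.toPermHom G Ω))
  have hthree' : MulAction.IsMultiplyPretransitive Γ Ω 3 := by
    have h0 : 0 < Fintype.card (Fin 3 ↪ Ω) := by
      rw [Fintype.card_embedding_eq, Fintype.card_fin, hΩcard]
      exact Nat.descFactorial_pos.2 (by omega)
    obtain ⟨e₀⟩ := Fintype.card_pos_iff.1 h0
    let f : Γ → (Fin 3 ↪ Ω) := fun g => g • e₀
    have hf : Function.Injective f := by
      intro a b hab
      have h1 : ∀ i, (b⁻¹ * a) • e₀ i = e₀ i := fun i => by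
        have h2 : a • e₀ i = b • e₀ i := congrArg (fun e : Fin 3 ↪ Ω => e i) hab
        rw [mul_smul, h2, inv_smul_smul]
      have h3 : 3 ≤ Nat.card (MulAction.fixedBy Ω (b⁻¹ * a)) := by
        calc 3 = Nat.card (Fin 3) := by simp
          _ ≤ _ := Nat.card_le_card_of_injective (fun i => (⟨e₀ i, h1 i⟩ :
              MulAction.fixedBy Ω (b⁻¹ * a))) fun i j hij => e₀.injective (congrArg Subtype.val hij)
      exact (inv_mul_eq_one.1 (hfixΓ _ h3)).symm
    have hfb : Function.Bijective f := by
      refine (Fintype.bijective_iff_injective_and_card f).2 ⟨hf, ?_⟩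
      rw [Fintype.card_embedding_eq, Fintype.card_fin, hΩcard, ← Nat.card_eq_fintype_card,
        ← Nat.card_congr (MonoidHom.ofInjective hinj).toEquiv, hG]
      simp [Nat.descFactorial_succ]
      ring
    constructor
    intro x y
    obtain ⟨a, ha⟩ := hfb.2 x
    obtain ⟨b, hb⟩ := hfb.2 y
    exact ⟨b * a⁻¹, by
      rw [← ha, ← hb]
      refine Function.Embedding.ext fun i => ?_
      show (b * a⁻¹) • (a • e₀ i) = b • e₀ i
      rw [← mul_smul, inv_mul_cancel_right]⟩
  obtain ⟨a, -, hα, F, iF, iFF, hF, ⟨e⟩⟩ := S4702.result (α := Ω) (by omega)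
    (by rw [hΩcard]; exact hpodd) Γ hthree' hfixΓ
  exact ⟨a, F, iF, iFF, hF, hΩcard ▸ hα, ⟨(MonoidHom.ofInjective hinj).trans e⟩⟩

/-- In characteristic two `SL(2, F)` is `PSL(2, F)`. -/
theorem sl_equiv_psl {F : Type*} [Field F] [Fintype F] {a : ℕ} (hF : Fintype.card F = 2 ^ a) :
    Nonempty (Matrix.SpecialLinearGroup (Fin 2) F ≃* Matrix.ProjectiveSpecialLinearGroup (Fin 2) F) := by
  classical
  haveI : Fact (Nat.Prime 2) := ⟨Nat.prime_two⟩
  have h2 : (2 : F) = 0 := by
    have h1 := FiniteField.cast_card_eq_zero F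
    rw [hF] at h1
    push_cast at h1
    exact (pow_eq_zero_iff (by rintro rfl; simp at h1)).1 h1
  refine ⟨MulEquiv.ofBijective
    (QuotientGroup.mk' (Subgroup.center (Matrix.SpecialLinearGroup (Fin 2) F)))
    ⟨?_, QuotientGroup.mk'_surjective _⟩⟩
  rw [← MonoidHom.ker_eq_bot_iff, QuotientGroup.ker_mk', eq_bot_iff]
  intro A hA
  obtain ⟨r, hr, hA'⟩ := Matrix.SpecialLinearGroup.mem_center_iff.1 hA
  rw [Fintype.card_fin] at hr
  have hr1 : r = 1 := by
    have h3 : (r - 1) ^ 2 = 0 := by linear_combination hr - (r - 1) * h2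
    exact sub_eq_zero.1 (pow_eq_zero_iff two_ne_zero |>.1 h3)
  rw [Subgroup.mem_bot]
  refine Subtype.ext ?_
  rw [← hA', hr1, map_one]
  rfl

end Cfsg.Agent.BrauerPSL
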