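import Cfsg.Agent.Lib.BrauerPSL.CaseA
import Cfsg.Agent.Lib.BrauerPSL.CaseBFinal
import Cfsg.Agent.Lib.BrauerPSL.Recognition
import Cfsg.Agent.Lib.CharInt.Kazarin

/-!
# Brauer's theorem

A perfect group with a Sylow subgroup of order `p`, trivial `O_p'` and `1 + n p` Sylow subgroups,
`n` not of the form `(h u p + u ^ 2 + u + h) / (u + 1)`, is `PSL(2, p)` or `SL(2, p - 1)`.
-/

set_option autoImplicit false
set_option linter.style.haveILetI false
set_option linter.unusedSectionVars false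

namespace Cfsg.Agent.BrauerPSL

open Cfsg Cfsg.Agent
open scoped Classical

universe u

variable {G : Type u} [Group G] [Fintype G] {p : ℕ} [hp : Fact p.Prime] (P : Sylow p G)

theorem sylow_mod_one : ∃ n, Nat.card (Sylow p G) = 1 + n * p := by
  have h1 : Nat.card (Sylow p G) % p = 1 := by
    have := card_sylow_modEq_one p G
    rw [Nat.ModEq, Nat.mod_eq_of_lt hp.out.one_lt] at this
    exact this
  exact ⟨Nat.card (Sylow p G) / p, by
    have := Nat.div_add_mod (Nat.card (Sylow p G)) p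
    rw [h1] at this; rw [mul_comm]; omega⟩

theorem exists_setup (hperf : commutator G = ⊤) (hP : Nat.card P = p)
    (hcore : pPrimeCore p G = ⊥) {n₀ : ℕ} (hdvd : Nat.card (Sylow p G) ∣ 1 + n₀ * p)
    (hF : NonF p n₀) : ∃ t, Nonempty (Setup P n₀ t) := by
  obtain ⟨M, hM⟩ := CharInt.exists_isPModular_of_prime hp.out
  haveI := hM.2.1
  obtain ⟨n, hn⟩ := sylow_mod_one (G := G) (p := p)
  set m := (Subgroup.centralizer ((P : Subgroup G) : Set G)).relIndex
    (Subgroup.normalizer ((P : Subgroup G) : Set G)) with hm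
  obtain ⟨hnn, hn1, t, D, ht, hneg, hpos, hnegd, hth⟩ := main_degrees (P := P) (M := M) hperf hM.2.2
    hP hm.symm (two_le_relIndex hperf hP) hn (hn ▸ hdvd) hF
  obtain ⟨η, hη⟩ := hneg
  have sc : SelfCent P := selfCent_of_negChar hP hcore η (hnegd η hη)
    (fun y hy hy1 => D.neg_section η hη y hy hy1)
  subst hnn
  have hq : qIdx P = m := qIdx_eq_relIndex sc
  clear_value m
  subst hq
  exact ⟨t, ⟨sc, hperf, hn, hn1, D, ht, ⟨η, hη⟩, hpos, hnegd, hth⟩⟩

theorem isSimpleGroup_of_setup {n t : ℕ} (S : Setup P n t) (hcore : pPrimeCore p G = ⊥) :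
    IsSimpleGroup G := by
  haveI : Nontrivial G := by
    obtain ⟨y, -, hy⟩ := S.sc.exists_ne_one
    exact ⟨⟨y, 1, hy⟩⟩
  refine ⟨fun M hM => ?_⟩
  by_cases hpM : p ∣ Nat.card M
  · right
    haveI := hM
    have hPM : (P : Subgroup G) ≤ M := by
      obtain ⟨k, hk⟩ := exists_prime_orderOf_dvd_card' p hpM
      have hord : orderOf (k : G) = p := by rw [Subgroup.orderOf_coe, hk]
      obtain ⟨R, hR⟩ := IsPGroup.exists_le_sylow
        (IsPGroup.of_card (n := 1) (by rw [Nat.card_zpowers, hord, pow_one]) :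
          IsPGroup p (Subgroup.zpowers (k : G)))
      obtain ⟨g, hg⟩ := MulAction.exists_smul_eq G R P
      have hgk : g * k * g⁻¹ ∈ (P : Subgroup G) := by
        rw [← hg]
        exact Subgroup.smul_mem_pointwise_smul (k : G) (MulAut.conj g) _ (hR (Subgroup.mem_zpowers _))
      have hne : g * (k : G) * g⁻¹ ≠ 1 := fun h => hp.out.ne_one (by
        rw [← hord, orderOf_eq_one_iff]
        calc (k : G) = g⁻¹ * (g * k * g⁻¹) * g := by group
          _ = 1 := by rw [h]; group)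
      rw [← S.sc.zpowers_eq hgk hne, Subgroup.zpowers_le]
      exact hM.conj_mem _ k.2 g
    have hsup : Subgroup.normalizer ((P : Subgroup G) : Set G) ⊔ M = ⊤ :=
      P.normalizer_sup_eq_top' hPM
    have hle : commutator G ≤ M := by
      rw [commutator_def, Subgroup.commutator_le]
      intro a _ b _
      obtain ⟨a₁, ha₁, a₂, ha₂, rfl⟩ := Subgroup.mem_sup_of_normal_right.1 (hsup ▸ Subgroup.mem_top a)
      obtain ⟨b₁, hb₁, b₂, hb₂, rfl⟩ := Subgroup.mem_sup_of_normal_right.1 (hsup ▸ Subgroup.mem_top b)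
      have h1 : a₁ * b₁ * a₁⁻¹ * b₁⁻¹ ∈ M := by
        refine hPM ((mk_eq_one_iff P (⟨a₁, ha₁⟩ * ⟨b₁, hb₁⟩ * ⟨a₁, ha₁⟩⁻¹ * ⟨b₁, hb₁⟩⁻¹)).1 ?_)
        rw [map_mul, map_mul, map_mul, map_inv, map_inv,
          S.sc.comm_Q (QuotientGroup.mk' (PN P) ⟨a₁, ha₁⟩), mul_inv_cancel_right, mul_inv_cancel]
      rw [← QuotientGroup.eq_one_iff] at h1
      rw [← QuotientGroup.eq_one_iff, commutatorElement_def]
      simp only [QuotientGroup.mk_mul, QuotientGroup.mk_inv] at h1 ⊢
      rw [(QuotientGroup.eq_one_iff a₂).2 ha₂, (QuotientGroup.eq_one_iff b₂).2 hb₂]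
      simpa using h1
    rw [S.perf] at hle
    exact top_le_iff.1 hle
  · left
    haveI := hM
    refine eq_bot_iff.2 ((PCore.le_pPrimeCore (p := p) ?_).trans hcore.le)
    exact Nat.Coprime.symm ((Nat.Prime.coprime_iff_not_dvd hp.out).2 hpM)

theorem card_eq_of_setup {n t : ℕ} (S : Setup P n t) :
    Nat.card G = (1 + n * p) * (qIdx P * p) := by
  rw [← S.card_sylow, P.card_eq_index_normalizer, ← S.cardN, mul_comm]
  exact (Subgroup.card_mul_index _).symm

/-- Brauer's theorem. -/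
theorem brauer (hperf : commutator G = ⊤) (hP : Nat.card P = p) (hcore : pPrimeCore p G = ⊥)
    {n₀ : ℕ} (hdvd : Nat.card (Sylow p G) ∣ 1 + n₀ * p) (hF : NonF p n₀) :
    Nat.card (Sylow p G) = 1 + n₀ * p ∧ IsSimpleGroup G ∧ SelfCent P ∧ 3 < p ∧
      ((∃ (F : Type) (_ : Field F) (_ : Fintype F), Fintype.card F = p ∧
          2 * Nat.card G = p * (p ^ 2 - 1) ∧
          Nonempty (G ≃* Matrix.ProjectiveSpecialLinearGroup (Fin 2) F)) ∨
        (∃ (m : ℕ) (F : Type) (_ : Field F) (_ : Fintype F), Fintype.card F = 2 ^ m ∧ p = 2 ^ m + 1 ∧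
          Nat.card G = p * ((p - 1) * (p - 2)) ∧
          Nonempty (G ≃* Matrix.SpecialLinearGroup (Fin 2) F))) := by
  obtain ⟨t, ⟨S⟩⟩ := exists_setup P hperf hP hcore hdvd hF
  haveI := isSimpleGroup_of_setup P S hcore
  have hq2 : 2 ≤ qIdx P := by
    rw [qIdx_eq_relIndex S.sc]; exact two_le_relIndex hperf hP
  have htq := S.D.htm
  have hqlt := S.sc.qIdx_lt
  have hpodd : Odd p := hp.out.odd_of_ne_two (by omega)
  obtain ⟨θ₀, hθ₀⟩ : S.D.Θ.Nonempty := Finset.card_pos.1 (by rw [S.D.cardΘ]; exact S.t_pos)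
  have hcases : (n₀ = 1 ∧ t = 2) ∨ (qIdx P = 2 ∧ n₀ + 1 = t ∧ ∃ s : G, orderOf s = 2 ∧
      Nat.card (Subgroup.centralizer ({s} : Set G)) = p - 1 ∧
      ∀ u ∈ Subgroup.centralizer ({s} : Set G), u * u = 1 ∧ (u ≠ 1 → IsConj s u)) := by
    rcases S.D.hε with hε | hε
    · exact Or.inl (S.case_pos hε)
    · exact S.case_neg hε hθ₀
  have h3 : 3 < p := by
    rcases hcases with ⟨-, rfl⟩ | ⟨h2, hnt, -⟩
    · omega
    · have := S.one_le
      rw [h2] at htq; omega
  have h5 : 5 ≤ p := by obtain ⟨i, hi⟩ := hpodd; omega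
  refine ⟨S.card_sylow, inferInstance, S.sc, h3, ?_⟩
  rcases hcases with ⟨rfl, rfl⟩ | ⟨h2, hnt, s, hs, hcard, hC⟩
  · left
    set q := qIdx P with hq
    have hG : Nat.card G = p * ((1 + p) * q) := by rw [card_eq_of_setup P S, ← hq]; ring
    have h2m : 2 * ((1 + p) * q) = p ^ 2 - 1 := by
      rw [← htq, eq_comm, Nat.sub_eq_iff_eq_add (Nat.one_le_pow _ _ (by omega))]
      ring
    refine ⟨ZMod p, inferInstance, inferInstance, ZMod.card p, ?_, ?_⟩
    · rw [hG, ← h2m]; ring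
    refine PSL2.Recog.psl_of_prime h5 hG h2m (fun j hj hjm => ?_) (ZMod.card p)
    obtain ⟨r, hr⟩ := hj
    have hrq : r % p = q := by
      have h := congrArg (· % p) hr
      simp only [Nat.mul_mod, Nat.add_mod, Nat.mod_self, add_zero, Nat.mod_mod, hjm, one_mul,
        Nat.mod_eq_of_lt hp.out.one_lt, Nat.mod_eq_of_lt hqlt] at h
      exact h.symm
    have hjle : j ≤ p + 1 := by
      have h1 : j * q ≤ (1 + p) * q := by
        rw [hr]; exact Nat.mul_le_mul_left j (hrq ▸ Nat.mod_le r p)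
      have := Nat.le_of_mul_le_mul_right h1 (by omega)
      omega
    have hdiv := Nat.div_add_mod j p
    rw [hjm] at hdiv
    rcases Nat.lt_or_ge (j / p) 2 with h | h
    · interval_cases hd : j / p <;> omega
    · have : p * 2 ≤ p * (j / p) := Nat.mul_le_mul_left p h
      omega
  · right
    have hn : n₀ * 2 + 3 = p := by rw [h2] at htq; omega
    have hG : Nat.card G = p * ((p - 1) * (p - 2)) := by
      rw [card_eq_of_setup P S, h2, ← hn,
        show n₀ * 2 + 3 - 1 = 2 * n₀ + 2 by omega, show n₀ * 2 + 3 - 2 = 2 * n₀ + 1 by omega]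
      ring
    obtain ⟨a, F, iF, iFF, hFc, hpa, he⟩ := exists_sl_two hp.out h5 hG hs hcard hC
    exact ⟨a, F, iF, iFF, hFc, hpa, hG, he⟩

end Cfsg.Agent.BrauerPSL
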