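import Cfsg.Agent.Lib.BrauerPSL.Main
import Cfsg.Agent.Lib.PCore.Basic

/-!
# Brauer's theorem modulo `O_p'`
-/

set_option autoImplicit false
set_option linter.style.haveILetI false
set_option linter.unusedSectionVars false

namespace Cfsg.Agent.BrauerPSL

open Cfsg Cfsg.Agent
open scoped Classical

universe u

variable {G : Type u} [Group G] [Finite G] {p : ℕ} [hp : Fact p.Prime] (P : Sylow p G)

/-- Brauer's theorem for `G / O_p'(G)`; also `O_p'(G)` normalises `P`. -/
theorem brauer_quotient (hperf : commutator G = ⊤) (hP : Nat.card P = p) {n : ℕ}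
    (hn : Nat.card (Sylow p G) = 1 + n * p) (hF : NonF p n) :
    3 < p ∧ pPrimeCore p G ≤ Subgroup.normalizer ((P : Subgroup G) : Set G) ∧
      ((∃ (F : Type) (_ : Field F) (_ : Fintype F), Fintype.card F = p ∧
          2 * Nat.card (G ⧸ pPrimeCore p G) = p * (p ^ 2 - 1) ∧
          Nonempty (G ⧸ pPrimeCore p G ≃* Matrix.ProjectiveSpecialLinearGroup (Fin 2) F)) ∨
        (∃ (m : ℕ) (F : Type) (_ : Field F) (_ : Fintype F), Fintype.card F = 2 ^ m ∧ p = 2 ^ m + 1 ∧
          Nat.card (G ⧸ pPrimeCore p G) = p * ((p - 1) * (p - 2)) ∧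
          Nonempty (G ⧸ pPrimeCore p G ≃* Matrix.SpecialLinearGroup (Fin 2) F))) := by
  classical
  set H := pPrimeCore p G with hH
  set f := QuotientGroup.mk' H with hf
  have hfs : Function.Surjective f := QuotientGroup.mk'_surjective H
  haveI : Fintype (G ⧸ H) := Fintype.ofFinite _
  set P' : Sylow p (G ⧸ H) := P.mapSurjective hfs with hP'
  have hP'card : Nat.card P' = p := by
    change Nat.card ((P : Subgroup G).map f : Subgroup (G ⧸ H)) = p
    have h1 : Nat.card ((P : Subgroup G).map f : Subgroup (G ⧸ H)) ∣ p := by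
      conv_rhs => rw [← hP]
      exact Subgroup.card_map_dvd _ _
    refine ((Nat.dvd_prime hp.out).1 h1).resolve_left fun h1' => ?_
    have h2 : (P : Subgroup G).map f = ⊥ := Subgroup.card_eq_one.1 h1'
    rw [Subgroup.map_eq_bot_iff, hf, QuotientGroup.ker_mk'] at h2
    have h3 := Subgroup.card_dvd_of_le h2
    change Nat.card P ∣ _ at h3
    rw [hP] at h3
    exact PCore.not_dvd_card_pPrimeCore h3
  have hperf' : commutator (G ⧸ H) = ⊤ := by
    rw [commutator_def, ← Subgroup.map_top_of_surjective f hfs, ← Subgroup.map_commutator,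
      ← commutator_def, hperf]
  have hcore : pPrimeCore p (G ⧸ H) = ⊥ := PCore.pPrimeCore_quotient_self_eq_bot
  set N := Subgroup.normalizer ((P : Subgroup G) : Set G) with hN
  have hd1 : (Subgroup.normalizer ((P' : Subgroup (G ⧸ H)) : Set (G ⧸ H))).index ∣ (N.map f).index :=
    Subgroup.index_dvd_of_le (Subgroup.le_normalizer_map f)
  have hd2 : (N.map f).index ∣ N.index := N.index_map_dvd hfs
  have hdvd : Nat.card (Sylow p (G ⧸ H)) ∣ 1 + n * p := by
    rw [← hn, P'.card_eq_index_normalizer, P.card_eq_index_normalizer]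
    exact hd1.trans hd2
  obtain ⟨hcard, -, -, h3, hres⟩ := brauer P' hperf' hP'card hcore hdvd hF
  refine ⟨h3, ?_, hres⟩
  have hle : H ≤ N := by
    have h1 : (N.map f).index = N.index := by
      refine Nat.dvd_antisymm hd2 ?_
      have e : N.index = Nat.card (Sylow p (G ⧸ H)) := by
        rw [hcard, ← hn, P.card_eq_index_normalizer]; rfl
      rw [e, P'.card_eq_index_normalizer]
      exact hd1
    rw [Subgroup.index_map, MonoidHom.range_eq_top.2 hfs, Subgroup.index_top, mul_one, hf,
      QuotientGroup.ker_mk'] at h1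
    by_contra hne
    have h2 : N < N ⊔ H := left_lt_sup.2 hne
    exact absurd h1 (Subgroup.index_strictAnti h2).ne
  exact hle

/-- A perfect group of order less than `p ^ 3` without normal Sylow `p`-subgroup. -/
theorem sylow_data_of_small (hperf : commutator G = ⊤) (hdvd : p ∣ Nat.card G)
    (hbig : Nat.card G < p ^ 3) (hnn : ¬ (P : Subgroup G).Normal) :
    Nat.card P = p ∧ ∃ n, Nat.card (Sylow p G) = 1 + n * p ∧ NonF p n := by
  classical
  haveI := Fintype.ofFinite G
  obtain ⟨n, hn'⟩ := sylow_mod_one (G := G) (p := p)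
  have hcardG : Nat.card G = Nat.card (Sylow p G) *
      Nat.card (Subgroup.normalizer ((P : Subgroup G) : Set G)) := by
    rw [P.card_eq_index_normalizer]; exact (Subgroup.index_mul_card _).symm
  have hn0 : n ≠ 0 := by
    rintro rfl
    rw [zero_mul, add_zero] at hn'
    haveI : Subsingleton (Sylow p G) := (Nat.card_eq_one_iff_unique.1 hn').1
    exact hnn (Sylow.normal_of_subsingleton P)
  have hPcard : Nat.card P = p := by
    have h1 := Sylow.card_eq_multiplicity P
    have hk : (Nat.card G).factorization p = 1 := by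
      have h2 := hp.out.factorization_pos_of_dvd Nat.card_pos.ne' hdvd
      by_contra hk
      have h3 : p ^ 2 ≤ Nat.card (Subgroup.normalizer ((P : Subgroup G) : Set G)) := by
        refine le_trans ?_ (Subgroup.card_le_of_le Subgroup.le_normalizer :
          Nat.card (P : Subgroup G) ≤ _)
        change p ^ 2 ≤ Nat.card P
        rw [h1]; exact Nat.pow_le_pow_right hp.out.pos (by omega)
      have h4 : (1 + p) * p ^ 2 ≤ Nat.card G := by
        rw [hcardG, hn']
        refine Nat.mul_le_mul ?_ h3
        have : p ≤ n * p := Nat.le_mul_of_pos_left p (by omega)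
        omega
      nlinarith
    rw [h1, hk, pow_one]
  refine ⟨hPcard, n, hn', nonF_of_lt ?_⟩
  have hm := two_le_relIndex (P := P) hperf hPcard
  have hN2 : 2 * p ≤ Nat.card (Subgroup.normalizer ((P : Subgroup G) : Set G)) := by
    set C := Subgroup.centralizer ((P : Subgroup G) : Set G) with hC
    set N := Subgroup.normalizer ((P : Subgroup G) : Set G) with hN
    have h1 : Nat.card C * C.relIndex N = Nat.card N := by
      rw [← Nat.card_congr (Subgroup.subgroupOfEquivOfLe
        (Subgroup.centralizer_le_normalizer _ : C ≤ N)).toEquiv]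
      exact Subgroup.card_mul_index _
    have h2 : p ≤ Nat.card C := by
      rw [← hPcard]
      refine Subgroup.card_le_of_le fun g hg => Subgroup.mem_centralizer_iff.2 fun x hx => ?_
      haveI : IsCyclic (P : Subgroup G) := isCyclic_of_prime_card hPcard
      letI : CommGroup (P : Subgroup G) := IsCyclic.commGroup
      exact congrArg Subtype.val (mul_comm (⟨x, hx⟩ : (P : Subgroup G)) ⟨g, hg⟩)
    rw [← h1, mul_comm 2 p]
    exact Nat.mul_le_mul h2 hm
  by_contra hge
  have h1 : (1 + n * p) * (2 * p) ≤ Nat.card G := by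
    rw [hcardG, hn']; exact Nat.mul_le_mul_left _ hN2
  have h2 : (p + 3) * p ≤ 2 * n * p := Nat.mul_le_mul_right p (by omega)
  nlinarith

end Cfsg.Agent.BrauerPSL
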