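import Cfsg.Agent.Lib.Char.Induction
import Cfsg.Agent.Lib.Char.Linear
import Cfsg.Agent.Lib.Char.KernelSum
import Cfsg.Agent.Lib.SmallSimple.Tools
import Mathlib.GroupTheory.SpecificGroups.Cyclic

/-!
# Restriction of characters to the normalizer of a self-centralising Sylow subgroup of order `p`

`Q = N_G(P) / P` is cyclic of order `q` dividing `p - 1`. For a function `χ` on `G` and a
character `l` of `Q`, `mult P χ l` is the inner product on `N_G(P)` with the inflation of `l`,
`ind P l` is the induced function and `avg P χ g` the average over the coset `g P`.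
-/

set_option autoImplicit false
set_option linter.style.haveILetI false
set_option linter.unusedSectionVars false

namespace Cfsg.Agent.BrauerPSL

open Cfsg Cfsg.Agent
open scoped ComplexConjugate Classical

universe u

variable {G : Type u} [Group G] [Fintype G] {p : ℕ} [hp : Fact p.Prime] (P : Sylow p G)

/-- `P` has order `p` and is the centraliser of each of its nontrivial elements. -/
structure SelfCent : Prop where
  card : Nat.card P = p
  cent : ∀ y ∈ (P : Subgroup G), y ≠ 1 → Subgroup.centralizer ({y} : Set G) = P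

/-- The normalizer of `P`. -/
abbrev NP : Subgroup G := Subgroup.normalizer ((P : Subgroup G) : Set G)

/-- `P` inside its normalizer. -/
abbrev PN : Subgroup (NP P) := (P : Subgroup G).subgroupOf (NP P)

instance pn_normal : (PN P).Normal := Subgroup.normal_in_normalizer

/-- `N_G(P) / P`. -/
abbrev Q : Type u := NP P ⧸ PN P

/-- The order of `N_G(P) / P`. -/
noncomputable def qIdx : ℕ := Nat.card (Q P)

noncomputable instance fintypeQ : Fintype (Q P) := Fintype.ofFinite _

/-- The inflation of a character of `Q`. -/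
noncomputable def lam (l : IrrCharacter (Q P)) : NP P → ℂ :=
  fun g => l.1 (QuotientGroup.mk' (PN P) g)

/-- The multiplicity of `l` in the restriction of `χ`. -/
noncomputable def mult (χ : G → ℂ) (l : IrrCharacter (Q P)) : ℂ :=
  classInner (fun g : NP P => χ g) (lam P l)

/-- The function induced from `l`. -/
noncomputable def ind (l : IrrCharacter (Q P)) : G → ℂ := indFun (NP P) (lam P l)

/-- The average of `χ` over the coset `g P`. -/
noncomputable def avg (χ : G → ℂ) (g : G) : ℂ := (p : ℂ)⁻¹ * ∑ y : (P : Subgroup G), χ (g * y)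

theorem mk_eq_one_iff (g : NP P) :
    QuotientGroup.mk' (PN P) g = 1 ↔ (g : G) ∈ (P : Subgroup G) := by
  rw [QuotientGroup.mk'_apply, QuotientGroup.eq_one_iff, Subgroup.mem_subgroupOf]

theorem card_NP_eq_mul : Nat.card (NP P) = qIdx P * Nat.card P := by
  rw [Subgroup.card_eq_card_quotient_mul_card_subgroup (PN P)]
  congr 1
  exact Nat.card_congr (Subgroup.subgroupOfEquivOfLe Subgroup.le_normalizer).toEquiv

theorem qIdx_pos : 0 < qIdx P := Nat.card_pos

theorem lam_isCharacter (l : IrrCharacter (Q P)) : IsCharacter (NP P) (lam P l) :=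
  Char.IsCharacter.comp (Char.irr_isCharacter l) _

theorem lam_of_mem (hQ : ∀ a b : Q P, a * b = b * a) (l : IrrCharacter (Q P)) {g : NP P}
    (hg : (g : G) ∈ (P : Subgroup G)) : lam P l g = 1 := by
  rw [lam, (mk_eq_one_iff P g).2 hg, Char.apply_one_of_comm hQ l]

variable {P}

theorem SelfCent.orderOf_eq (h : SelfCent P) {y : G} (hy : y ∈ (P : Subgroup G)) (hy1 : y ≠ 1) :
    orderOf y = p := by
  have h1 : orderOf y ∣ p := h.card ▸ Subgroup.orderOf_dvd_natCard _ hy
  exact ((Nat.dvd_prime hp.out).1 h1).resolve_left fun h2 => hy1 (orderOf_eq_one_iff.1 h2)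

theorem SelfCent.zpowers_eq (h : SelfCent P) {y : G} (hy : y ∈ (P : Subgroup G)) (hy1 : y ≠ 1) :
    Subgroup.zpowers y = (P : Subgroup G) :=
  Subgroup.eq_of_le_of_card_ge (Subgroup.zpowers_le.2 hy)
    (by rw [h.card, Nat.card_zpowers, h.orderOf_eq hy hy1])

theorem SelfCent.exists_ne_one (h : SelfCent P) : ∃ y ∈ (P : Subgroup G), y ≠ 1 := by
  haveI : Nontrivial (P : Subgroup G) :=
    Finite.one_lt_card_iff_nontrivial.1 (hp.out.one_lt.trans_le h.card.ge)
  obtain ⟨y, hy⟩ := exists_ne (1 : (P : Subgroup G))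
  exact ⟨y, y.2, fun e => hy (Subtype.ext e)⟩

theorem SelfCent.card_NP (h : SelfCent P) : Nat.card (NP P) = qIdx P * p := by
  rw [card_NP_eq_mul, h.card]

theorem SelfCent.centralizer_P (h : SelfCent P) :
    Subgroup.centralizer ((P : Subgroup G) : Set G) = (P : Subgroup G) := by
  obtain ⟨y, hy, hy1⟩ := h.exists_ne_one
  refine le_antisymm (fun g hg => ?_) fun g hg => Subgroup.mem_centralizer_iff.2 fun x hx => ?_
  · rw [← h.cent y hy hy1]
    exact Subgroup.mem_centralizer_singleton_iff.2 ((Subgroup.mem_centralizer_iff.1 hg y hy).symm)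
  · by_cases hx1 : x = 1
    · simp [hx1]
    · exact (Subgroup.mem_centralizer_singleton_iff.1 ((h.cent x hx hx1).ge hg)).symm

theorem SelfCent.isCyclic_Q (h : SelfCent P) : IsCyclic (Q P) ∧ qIdx P ∣ p - 1 := by
  set ψ := (P : Subgroup G).normalizerMonoidHom with hψ
  haveI : IsCyclic (P : Subgroup G) := isCyclic_of_prime_card h.card
  haveI : Fact (Nat.card (P : Subgroup G)).Prime := ⟨by rw [h.card]; exact hp.out⟩
  haveI : IsCyclic (MulAut (P : Subgroup G)) :=
    isCyclic_of_surjective (IsCyclic.mulAutMulEquiv (P : Subgroup G)).symm.toMonoidHom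
      (IsCyclic.mulAutMulEquiv (P : Subgroup G)).symm.surjective
  have hker : ψ.ker = PN P := by
    rw [hψ, Subgroup.normalizerMonoidHom_ker, h.centralizer_P]
  let φ : Q P →* MulAut (P : Subgroup G) := QuotientGroup.lift (PN P) ψ hker.ge
  have hφ : Function.Injective φ := by
    rw [← MonoidHom.ker_eq_bot_iff, eq_bot_iff]
    intro a ha
    obtain ⟨g, rfl⟩ := QuotientGroup.mk_surjective a
    exact Subgroup.mem_bot.2 ((QuotientGroup.eq_one_iff g).2 (hker.le ha))
  refine ⟨isCyclic_of_injective φ hφ, ?_⟩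
  have h1 : Nat.card (MulAut (P : Subgroup G)) = p - 1 := by
    rw [Nat.card_congr (IsCyclic.mulAutMulEquiv (P : Subgroup G)).toEquiv, Nat.card_eq_fintype_card, ZMod.card_units_eq_totient,
      h.card, Nat.totient_prime hp.out]
  rw [← h1]
  exact Subgroup.card_dvd_of_injective φ hφ

theorem SelfCent.comm_Q (h : SelfCent P) (a b : Q P) : a * b = b * a := by
  haveI := h.isCyclic_Q.1
  letI := IsCyclic.commGroup (α := Q P)
  exact mul_comm a b

theorem SelfCent.qIdx_lt (h : SelfCent P) : qIdx P < p := by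
  have h1 := Nat.le_of_dvd (by have := hp.out.two_le; omega) h.isCyclic_Q.2
  have := hp.out.two_le
  omega

theorem SelfCent.eq_one_of_commute (h : SelfCent P) {g y : G} (hg : g ∉ (P : Subgroup G))
    (hy : y ∈ (P : Subgroup G)) (hc : g * y = y * g) : y = 1 := by
  by_contra hy1
  exact hg ((h.cent y hy hy1).le (Subgroup.mem_centralizer_singleton_iff.2 hc))

theorem SelfCent.pow_qIdx_eq_one (h : SelfCent P) {g : G} (hg : g ∈ NP P)
    (hgP : g ∉ (P : Subgroup G)) : g ^ qIdx P = 1 := by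
  refine h.eq_one_of_commute hgP ?_ (((Commute.refl g).pow_right _).eq)
  refine (mk_eq_one_iff P (⟨g, hg⟩ ^ qIdx P)).1 ?_
  rw [map_pow]
  exact pow_card_eq_one'

theorem SelfCent.orderOf_dvd (h : SelfCent P) {g : G} (hg : g ∈ NP P)
    (hgP : g ∉ (P : Subgroup G)) : orderOf g ∣ qIdx P :=
  orderOf_dvd_of_pow_eq_one (h.pow_qIdx_eq_one hg hgP)

theorem SelfCent.isPRegular (h : SelfCent P) {g : G} (hg : g ∈ NP P)
    (hgP : g ∉ (P : Subgroup G)) : IsPRegular p g := fun hd => by
  have h1 := Nat.le_of_dvd (qIdx_pos P) (hd.trans (h.orderOf_dvd hg hgP))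
  have := h.qIdx_lt
  omega

/-- A coset of `P` outside `P` is a single `P`-class. -/
theorem SelfCent.exists_conj_eq (h : SelfCent P) {g : G} (hg : g ∈ NP P)
    (hgP : g ∉ (P : Subgroup G)) {y : G} (hy : y ∈ (P : Subgroup G)) :
    ∃ y' ∈ (P : Subgroup G), y' * g * y'⁻¹ = g * y := by
  let f : ↥(P : Subgroup G) → ↥(P : Subgroup G) := fun z => ⟨g⁻¹ * (z : G) * g * (z : G)⁻¹,
    mul_mem (by
      have := (Subgroup.mem_normalizer_iff.1 (inv_mem hg) z).1 z.2
      rwa [inv_inv] at this) (inv_mem z.2)⟩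
  have hf : Function.Injective f := by
    intro a b hab
    have e : g⁻¹ * a * g * (a : G)⁻¹ = g⁻¹ * b * g * (b : G)⁻¹ := congrArg Subtype.val hab
    have hcomm : (a : G) * b⁻¹ = (b : G)⁻¹ * a := by
      by_cases hb : (b : G) = 1
      · simp [hb]
      · exact Subgroup.mem_centralizer_singleton_iff.1
          ((h.cent _ (inv_mem b.2) (inv_ne_one.2 hb)).ge a.2)
    have e2 : g * ((a : G) * b⁻¹) = ((a : G) * b⁻¹) * g := by
      have e3 : (a : G) * g * (a : G)⁻¹ = b * g * (b : G)⁻¹ := by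
        apply mul_left_cancel (a := g⁻¹)
        simpa [mul_assoc] using e
      calc g * ((a : G) * b⁻¹) = g * ((b : G)⁻¹ * a) := by rw [hcomm]
        _ = (b : G)⁻¹ * (b * g * (b : G)⁻¹) * a := by group
        _ = (b : G)⁻¹ * (a * g * (a : G)⁻¹) * a := by rw [e3]
        _ = ((b : G)⁻¹ * a) * g := by group
        _ = _ := by rw [hcomm]
    have := h.eq_one_of_commute hgP (mul_mem a.2 (inv_mem b.2)) e2
    exact Subtype.ext (mul_inv_eq_one.1 this)
  obtain ⟨z, hz⟩ := (Finite.injective_iff_surjective.1 hf) ⟨y, hy⟩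
  refine ⟨z, z.2, ?_⟩
  have : g⁻¹ * z * g * (z : G)⁻¹ = y := congrArg Subtype.val hz
  rw [← this]; group

theorem SelfCent.avg_of_notMem (h : SelfCent P) {χ : G → ℂ} (hχ : IsClassFunction G χ) {g : G}
    (hg : g ∈ NP P) (hgP : g ∉ (P : Subgroup G)) : avg P χ g = χ g := by
  have h1 : ∀ y : (P : Subgroup G), χ (g * y) = χ g := fun y => by
    obtain ⟨y', -, e⟩ := h.exists_conj_eq hg hgP y.2
    rw [← e, hχ g y']
  rw [avg, Finset.sum_congr rfl fun y _ => h1 y, Finset.sum_const, Finset.card_univ,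
    ← Nat.card_eq_fintype_card, h.card, nsmul_eq_mul, ← mul_assoc,
    inv_mul_cancel₀ (Nat.cast_ne_zero.2 hp.out.ne_zero), one_mul]

theorem avg_one (χ : G → ℂ) :
    avg P χ 1 = (p : ℂ)⁻¹ * ∑ y : (P : Subgroup G), χ y := by
  simp [avg]

/-- Fourier inversion on `Q`. -/
theorem SelfCent.sum_mult_mul (h : SelfCent P) (χ : G → ℂ) (g : NP P) :
    ∑ l : IrrCharacter (Q P), mult P χ l * lam P l g = avg P χ g := by
  have horth : ∀ x : NP P, ∑ l : IrrCharacter (Q P), lam P l g * conj (lam P l x) =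
      if (g : G)⁻¹ * x ∈ (P : Subgroup G) then (qIdx P : ℂ) else 0 := by
    intro x
    have h1 := Char.sum_irr_mul_conj (QuotientGroup.mk' (PN P) g) (QuotientGroup.mk' (PN P) x)
    have hc : Subgroup.centralizer ({QuotientGroup.mk' (PN P) x} : Set (Q P)) = ⊤ :=
      eq_top_iff.2 fun a _ => Subgroup.mem_centralizer_singleton_iff.2 (h.comm_Q a _)
    rw [hc, Subgroup.card_top] at h1
    refine h1.trans ?_
    refine @if_congr _ _ _ (_) (_) _ _ _ _ ?_ rfl rfl
    rw [show IsConj (QuotientGroup.mk' (PN P) g) (QuotientGroup.mk' (PN P) x) ↔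
        QuotientGroup.mk' (PN P) g = QuotientGroup.mk' (PN P) x from
      ⟨fun e => by
        obtain ⟨c, hc⟩ := isConj_iff.1 e
        rw [← hc, h.comm_Q c, mul_inv_cancel_right], fun e => e ▸ IsConj.refl _⟩,
      QuotientGroup.mk'_apply, QuotientGroup.mk'_apply, QuotientGroup.eq,
      Subgroup.mem_subgroupOf, Subgroup.coe_mul, Subgroup.coe_inv]
  simp only [mult, classInner, mul_assoc, Finset.sum_mul, ← Finset.mul_sum]
  rw [Finset.sum_comm]
  have h2 : ∀ x : NP P, ∑ l : IrrCharacter (Q P), χ x * (conj (lam P l x) * lam P l g) =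
      if (g : G)⁻¹ * x ∈ (P : Subgroup G) then (qIdx P : ℂ) * χ x else 0 := by
    intro x
    rw [← Finset.mul_sum, Finset.sum_congr rfl fun l _ => mul_comm (conj (lam P l x)) _, horth x]
    split_ifs <;> ring
  rw [Finset.sum_congr rfl fun x _ => h2 x, ← Finset.sum_filter, ← Finset.mul_sum, avg, h.card_NP]
  have h3 : ∑ x ∈ Finset.univ.filter (fun x : NP P => (g : G)⁻¹ * x ∈ (P : Subgroup G)), χ x =
      ∑ y : (P : Subgroup G), χ (g * y) := by
    refine Finset.sum_bij' (fun x hx => (⟨(g : G)⁻¹ * x, (Finset.mem_filter.1 hx).2⟩ : (P : Subgroup G)))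
      (fun y _ => (g * ⟨y, Subgroup.le_normalizer y.2⟩ : NP P)) ?_ ?_ ?_ ?_ ?_
    · intro x _; exact Finset.mem_univ _
    · intro y _; simp [y.2]
    · intro x _; ext; simp
    · intro y _; ext; simp
    · intro x _; simp
  rw [h3, ← mul_assoc]
  push_cast
  rw [mul_inv, mul_comm ((qIdx P : ℂ)⁻¹) _, mul_assoc ((p : ℂ)⁻¹),
    inv_mul_cancel₀ (Nat.cast_ne_zero.2 (qIdx_pos P).ne'), mul_one]

theorem SelfCent.sum_mult (h : SelfCent P) (χ : G → ℂ) :
    ∑ l : IrrCharacter (Q P), mult P χ l = avg P χ 1 := by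
  have := h.sum_mult_mul χ 1
  simpa [lam_of_mem P h.comm_Q _ (show ((1 : NP P) : G) ∈ (P : Subgroup G) from one_mem _)] using this

theorem SelfCent.apply_eq_sum (h : SelfCent P) {χ : G → ℂ} (hχ : IsClassFunction G χ) (g : NP P)
    (hgP : (g : G) ∉ (P : Subgroup G)) :
    χ g = ∑ l : IrrCharacter (Q P), mult P χ l * lam P l g := by
  rw [h.sum_mult_mul χ g, h.avg_of_notMem hχ g.2 hgP]

theorem exists_nat_mult {χ : G → ℂ} (hχ : IsCharacter G χ) (l : IrrCharacter (Q P)) :
    ∃ m : ℕ, mult P χ l = m :=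
  Char.IsCharacter.exists_nat_classInner (Char.IsCharacter.restrict hχ (NP P)) (lam_isCharacter P l)

theorem mult_add (χ φ : G → ℂ) (l : IrrCharacter (Q P)) :
    mult P (χ + φ) l = mult P χ l + mult P φ l :=
  Char.classInner_add_left _ _ _

theorem mult_smul (c : ℂ) (χ : G → ℂ) (l : IrrCharacter (Q P)) :
    mult P (c • χ) l = c * mult P χ l :=
  Char.classInner_smul_left c _ _

theorem mult_sum {ι : Type*} (s : Finset ι) (χ : ι → G → ℂ) (l : IrrCharacter (Q P)) :
    mult P (∑ i ∈ s, χ i) l = ∑ i ∈ s, mult P (χ i) l := by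
  rw [mult, show (fun g : NP P => (∑ i ∈ s, χ i) (g : G)) = ∑ i ∈ s, fun g : NP P => χ i g by
    funext g; simp, Char.classInner_sum_left]
  rfl

/-- A function living on the `p`-singular elements. -/
theorem SelfCent.qIdx_mul_mult_of_singular (h : SelfCent P) {R : G → ℂ} (c : ℂ)
    (h1 : R 1 = 0) (hy : ∀ y ∈ (P : Subgroup G), y ≠ 1 → R y = c)
    (hreg : ∀ g, IsPRegular p g → R g = 0) (l : IrrCharacter (Q P)) :
    (qIdx P : ℂ) * (p : ℂ) * mult P R l = ((p : ℂ) - 1) * c := by
  have hv : ∀ g : NP P, R g * conj (lam P l g) =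
      if (g : G) ∈ (P : Subgroup G) ∧ g ≠ 1 then c else 0 := by
    intro g
    by_cases hgP : (g : G) ∈ (P : Subgroup G)
    · rw [lam_of_mem P h.comm_Q l hgP, map_one, mul_one]
      by_cases hg1 : g = 1
      · simp [hg1, h1]
      · rw [if_pos ⟨hgP, hg1⟩, hy _ hgP fun e => hg1 (Subtype.ext e)]
    · rw [hreg _ (h.isPRegular g.2 hgP), zero_mul, if_neg fun e => hgP e.1]
  have hcard : (Finset.univ.filter fun g : NP P => (g : G) ∈ (P : Subgroup G) ∧ g ≠ 1).card =
      p - 1 := by
    rw [← Fintype.card_subtype, ← Nat.card_eq_fintype_card]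
    have e : {g : NP P // (g : G) ∈ (P : Subgroup G) ∧ g ≠ 1} ≃ {y : (P : Subgroup G) // y ≠ 1} :=
      { toFun := fun g => ⟨⟨g.1, g.2.1⟩, fun e => g.2.2 (Subtype.ext (congrArg (fun a : (P : Subgroup G) => (a : G)) e :))⟩
        invFun := fun y => ⟨⟨y.1, Subgroup.le_normalizer y.1.2⟩, y.1.2,
          fun e => y.2 (Subtype.ext (congrArg (fun a : NP P => (a : G)) e :))⟩
        left_inv := fun g => rfl
        right_inv := fun y => rfl }
    rw [Nat.card_congr e, Nat.card_eq_fintype_card, Fintype.card_subtype_compl,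
      Fintype.card_subtype_eq, ← Nat.card_eq_fintype_card]
    exact congrArg (· - 1) h.card
  rw [mult, classInner, Finset.sum_congr rfl fun g _ => hv g, ← Finset.sum_filter, Finset.sum_const,
    hcard, h.card_NP, nsmul_eq_mul, Nat.cast_sub hp.out.pos]
  push_cast
  field_simp [show (p : ℂ) ≠ 0 from Nat.cast_ne_zero.2 hp.out.ne_zero,
    show (qIdx P : ℂ) ≠ 0 from Nat.cast_ne_zero.2 (qIdx_pos P).ne']

theorem isClassFunction_ind (l : IrrCharacter (Q P)) : IsClassFunction G (ind P l) :=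
  Char.isClassFunction_indFun _ _

theorem isCharacter_ind (l : IrrCharacter (Q P)) : IsCharacter G (ind P l) :=
  Char.isCharacter_indFun _ (lam_isCharacter P l)

theorem classInner_ind {χ : G → ℂ} (hχ : IsCharacter G χ) (l : IrrCharacter (Q P)) :
    classInner (ind P l) χ = mult P χ l := by
  rw [ind, Char.classInner_indFun _ _ (Char.IsCharacter.isClassFunction hχ)]
  obtain ⟨m, hm⟩ := exists_nat_mult (P := P) hχ l
  rw [← Char.conj_classInner]
  change conj (mult P χ l) = mult P χ l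
  rw [hm, map_natCast]

theorem card_NP_mul_ind (l : IrrCharacter (Q P)) (g : G) :
    (Nat.card (NP P) : ℂ) * ind P l g =
      ∑ x : G, if h : x⁻¹ * g * x ∈ NP P then lam P l ⟨_, h⟩ else 0 := by
  rw [ind, indFun, ← mul_assoc, mul_inv_cancel₀ (Nat.cast_ne_zero.2 Nat.card_pos.ne'), one_mul]
  refine Finset.sum_congr rfl fun x _ => ?_
  split_ifs with h
  · exact Char.extendByZero_of_mem _ _ h
  · exact Char.extendByZero_of_notMem _ _ h

theorem ind_eq_zero (l : IrrCharacter (Q P)) {g : G} (h : ∀ x : G, x⁻¹ * g * x ∉ NP P) :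
    ind P l g = 0 :=
  Char.indFun_eq_zero_of_forall_notMem _ _ h

theorem SelfCent.ind_one (h : SelfCent P) (l : IrrCharacter (Q P)) :
    ind P l 1 = Nat.card (Sylow p G) := by
  rw [ind, Char.indFun_apply_one, P.card_eq_index_normalizer,
    lam_of_mem P h.comm_Q l (show ((1 : NP P) : G) ∈ (P : Subgroup G) from one_mem _), mul_one]
  rfl

theorem SelfCent.mem_NP_of_conj (h : SelfCent P) {y x : G} (hy : y ∈ (P : Subgroup G))
    (hy1 : y ≠ 1) (hx : x⁻¹ * y * x ∈ NP P) : x ∈ NP P := by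
  have hz1 : x⁻¹ * y * x ≠ 1 := fun e => hy1 (by
    calc y = x * (x⁻¹ * y * x) * x⁻¹ := by group
      _ = 1 := by rw [e]; group)
  have hord : orderOf (x⁻¹ * y * x) = p := by
    rw [← h.orderOf_eq hy hy1]
    simpa using orderOf_injective (MulAut.conj x⁻¹).toMonoidHom (MulAut.conj x⁻¹).injective y
  have hzP : x⁻¹ * y * x ∈ (P : Subgroup G) := by
    by_contra hzP
    exact h.isPRegular hx hzP (dvd_of_eq hord.symm)
  have hxi : x⁻¹ ∈ NP P := by
    refine Subgroup.mem_normalizer_iff_map_conj_eq.2 (Subgroup.eq_of_le_of_card_ge ?_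
      (Subgroup.card_map_of_injective (MulAut.conj x⁻¹).injective).ge)
    rw [← h.zpowers_eq hy hy1, MonoidHom.map_zpowers, Subgroup.zpowers_le, h.zpowers_eq hy hy1]
    simpa using hzP
  simpa using inv_mem hxi

theorem SelfCent.ind_of_mem (h : SelfCent P) (l : IrrCharacter (Q P)) {y : G}
    (hy : y ∈ (P : Subgroup G)) (hy1 : y ≠ 1) : ind P l y = 1 := by
  refine mul_left_cancel₀ (show (Nat.card (NP P) : ℂ) ≠ 0 from Nat.cast_ne_zero.2 Nat.card_pos.ne') ?_
  rw [card_NP_mul_ind, mul_one]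
  have hv : ∀ x : G, (if hx : x⁻¹ * y * x ∈ NP P then lam P l ⟨_, hx⟩ else 0) =
      if x ∈ NP P then (1 : ℂ) else 0 := by
    intro x
    by_cases hx : x ∈ NP P
    · have hP' : x⁻¹ * y * x ∈ (P : Subgroup G) := by
        have := (Subgroup.mem_normalizer_iff.1 (inv_mem hx) y).1 hy
        rwa [inv_inv] at this
      rw [dif_pos (Subgroup.le_normalizer hP'), if_pos hx]
      exact lam_of_mem P h.comm_Q l (g := ⟨_, Subgroup.le_normalizer hP'⟩) hP'
    · rw [dif_neg fun hc => hx (h.mem_NP_of_conj hy hy1 hc), if_neg hx]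
  rw [Finset.sum_congr rfl fun x _ => hv x, Finset.sum_boole, ← Fintype.card_subtype,
    Nat.card_eq_fintype_card]

end Cfsg.Agent.BrauerPSL
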