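import Cfsg.Agent.Lib.BrauerPSL.Restrict
import Cfsg.Agent.Lib.BrauerPSL.Block
import Cfsg.Agent.Lib.Transfer.Burnside
import Cfsg.Agent.Lib.PCore.Basic

/-!
# A character of degree `p - 1` with value `-1` on `P` makes `P` self-centralising
-/

set_option autoImplicit false
set_option linter.style.haveILetI false
set_option linter.unusedSectionVars false

namespace Cfsg.Agent.BrauerPSL

open Cfsg Cfsg.Agent
open scoped ComplexConjugate Classical

universe u

variable {G : Type u} [Group G] [Fintype G] {p : ℕ} [hp : Fact p.Prime] {P : Sylow p G}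

theorem exists_ne_one_of_card (hP : Nat.card P = p) : ∃ y ∈ (P : Subgroup G), y ≠ 1 := by
  haveI : Nontrivial (P : Subgroup G) :=
    Finite.one_lt_card_iff_nontrivial.1 (hp.out.one_lt.trans_le hP.ge)
  obtain ⟨y, hy⟩ := exists_ne (1 : (P : Subgroup G))
  exact ⟨y, y.2, fun e => hy (Subtype.ext e)⟩

/-- Burnside's transfer: in a perfect group the normalizer acts nontrivially. -/
theorem two_le_relIndex (hperf : commutator G = ⊤) (hP : Nat.card P = p) :
    2 ≤ (Subgroup.centralizer ((P : Subgroup G) : Set G)).relIndex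
      (Subgroup.normalizer ((P : Subgroup G) : Set G)) := by
  set r := (Subgroup.centralizer ((P : Subgroup G) : Set G)).relIndex
    (Subgroup.normalizer ((P : Subgroup G) : Set G)) with hr
  have h0 : r ≠ 0 := Subgroup.FiniteIndex.index_ne_zero
  by_contra h
  have h1 : (Subgroup.centralizer ((P : Subgroup G) : Set G)).relIndex
      (Subgroup.normalizer ((P : Subgroup G) : Set G)) = 1 := by omega
  obtain ⟨P', K, hK, hc⟩ := Transfer.hasNormalPComplement_of_normalizer_le_centralizer P
    (Subgroup.relIndex_eq_one.1 h1)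
  haveI := hK
  have hidx : K.index = p := by
    rw [hc.symm.index_eq_card]
    exact (Sylow.card_eq_multiplicity P').trans ((Sylow.card_eq_multiplicity P).symm.trans hP)
  haveI : IsCyclic (G ⧸ K) := isCyclic_of_prime_card (p := p) (by rw [← Subgroup.index_eq_card, hidx])
  letI : CommGroup (G ⧸ K) := IsCyclic.commGroup
  have hle : commutator G ≤ K := by
    rw [commutator_def, Subgroup.commutator_le]
    intro a _ b _
    rw [← QuotientGroup.eq_one_iff, commutatorElement_def]
    show ((a * b * a⁻¹ * b⁻¹ : G) : G ⧸ K) = 1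
    push_cast
    simp [mul_comm]
  rw [hperf, top_le_iff] at hle
  rw [hle, Subgroup.index_top] at hidx
  exact hp.out.ne_one hidx.symm

theorem selfCent_of_negChar (hP : Nat.card P = p) (hcore : pPrimeCore p G = ⊥) (η : IrrCharacter G)
    (hdeg : charDegree η.1 + 1 = p)
    (hsec : ∀ y ∈ (P : Subgroup G), y ≠ 1 →
      ∀ v ∈ Subgroup.centralizer ({y} : Set G), ¬ p ∣ orderOf v → η.1 (y * v) = -1) :
    SelfCent P := by
  obtain ⟨y₀, hy₀, hy₀1⟩ := exists_ne_one_of_card hP
  have hpne : (p : ℂ) ≠ 0 := Nat.cast_ne_zero.2 hp.out.ne_zero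
  set CP := Subgroup.centralizer ((P : Subgroup G) : Set G) with hCP
  have hPC : (P : Subgroup G) ≤ CP := by
    intro g hg
    refine Subgroup.mem_centralizer_iff.2 fun x hx => ?_
    haveI : IsCyclic (P : Subgroup G) := isCyclic_of_prime_card hP
    letI : CommGroup (P : Subgroup G) := IsCyclic.commGroup
    exact congrArg Subtype.val (mul_comm (⟨x, hx⟩ : (P : Subgroup G)) ⟨g, hg⟩)
  -- the `p'`-elements of the centraliser lie in the kernel
  have hker : ∀ v ∈ CP, ¬ p ∣ orderOf v → η.1 v = η.1 1 := by
    intro v hv hvr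
    obtain ⟨N, ρ, hρ, hch⟩ := η.2
    set T : Module.End ℂ (Fin N → ℂ) := ∑ y : (P : Subgroup G), ρ (y : G) with hT
    have hval : ∀ y : (P : Subgroup G), y ≠ 1 → η.1 (y : G) = -1 := fun y hy => by
      have := hsec y y.2 (fun e => hy (Subtype.ext e)) 1 (one_mem _)
        (by simp [hp.out.ne_one])
      rwa [mul_one] at this
    have hvy : ∀ y : (P : Subgroup G), y ≠ 1 → η.1 ((y : G) * v) = -1 := fun y hy =>
      hsec y y.2 (fun e => hy (Subtype.ext e)) v
        (Subgroup.mem_centralizer_singleton_iff.2 ((Subgroup.mem_centralizer_iff.1 hv y y.2).symm)) hvr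
    have hη1 : η.1 1 = (p : ℂ) - 1 := by
      rw [← Char.charDegree_cast]
      have : ((charDegree η.1 : ℕ) : ℂ) + 1 = (p : ℂ) := by exact_mod_cast hdeg
      linear_combination this
    have hTT : T * T = (p : ℂ) • T := by
      rw [hT, Finset.mul_sum]
      have : ∀ y : (P : Subgroup G), (∑ z : (P : Subgroup G), ρ (z : G)) * ρ (y : G) = T := by
        intro y
        rw [Finset.sum_mul, hT]
        exact Fintype.sum_equiv (Equiv.mulRight y) _ _ fun z => by simp
      rw [Finset.sum_congr rfl fun y _ => this y, Finset.sum_const, Finset.card_univ,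
        ← Nat.card_eq_fintype_card, hP, Nat.cast_smul_eq_nsmul]
    set e := (p : ℂ)⁻¹ • T with he
    have hidem : IsIdempotentElem e := by
      rw [IsIdempotentElem, he, smul_mul_smul_comm, hTT, smul_smul, mul_assoc, inv_mul_cancel₀ hpne,
        mul_one]
    have htr : LinearMap.trace ℂ _ e = 0 := by
      rw [he, map_smul, hT, map_sum]
      have : ∀ y : (P : Subgroup G), LinearMap.trace ℂ _ (ρ (y : G)) = η.1 (y : G) := fun y => by
        rw [← hch]; rfl
      rw [Finset.sum_congr rfl fun y _ => this y,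
        ← Finset.add_sum_erase _ _ (Finset.mem_univ (1 : (P : Subgroup G))),
        Finset.sum_congr rfl fun y hy => hval y (Finset.ne_of_mem_erase hy), Finset.sum_const,
        Finset.card_erase_of_mem (Finset.mem_univ _), Finset.card_univ, ← Nat.card_eq_fintype_card,
        hP, nsmul_eq_mul, OneMemClass.coe_one, hη1, Nat.cast_sub hp.out.pos]
      simp
    have hproj := (LinearMap.isProj_range_iff_isIdempotentElem e).2 hidem
    have hr := hproj.trace
    rw [htr] at hr
    have he0 : e = 0 := LinearMap.range_eq_bot.1 (Submodule.finrank_eq_zero.1 (by exact_mod_cast hr.symm))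
    have hT0 : T = 0 := by
      rw [he, smul_eq_zero] at he0
      exact he0.resolve_left (inv_ne_zero hpne)
    have h0 : LinearMap.trace ℂ _ (T * ρ v) = 0 := by rw [hT0, zero_mul, map_zero]
    rw [hT, Finset.sum_mul, map_sum,
      ← Finset.add_sum_erase _ _ (Finset.mem_univ (1 : (P : Subgroup G)))] at h0
    rw [Finset.sum_congr (s₁ := Finset.univ.erase (1 : (P : Subgroup G))) rfl
        fun y hy => show LinearMap.trace ℂ _ (ρ ((y : (P : Subgroup G)) : G) * ρ v) = -1 by
          rw [← map_mul, ← hvy y (Finset.ne_of_mem_erase hy), ← hch]; rfl,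
      Finset.sum_const, Finset.card_erase_of_mem (Finset.mem_univ _), Finset.card_univ,
      ← Nat.card_eq_fintype_card, hP, nsmul_eq_mul, OneMemClass.coe_one, map_one, one_mul,
      Nat.cast_sub hp.out.pos] at h0
    have h1 : η.1 v = (p : ℂ) - 1 := by
      rw [← hch]
      show LinearMap.trace ℂ _ (ρ v) = _
      push_cast at h0
      linear_combination h0
    rw [h1, hη1]
  have hchar := Char.irr_isCharacter η
  set K := CharInt.charKernel hchar with hK
  haveI : K.Normal := CharInt.charKernel_normal hchar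
  have hKp : ¬ p ∣ Nat.card K := by
    intro hd
    obtain ⟨k, hk⟩ := exists_prime_orderOf_dvd_card' p hd
    have hord : orderOf (k : G) = p := by rw [Subgroup.orderOf_coe, hk]
    obtain ⟨Q, hQ⟩ := IsPGroup.exists_le_sylow
      (IsPGroup.of_card (n := 1) (by rw [Nat.card_zpowers, hord, pow_one]) :
        IsPGroup p (Subgroup.zpowers (k : G)))
    obtain ⟨g, hg⟩ := MulAction.exists_smul_eq G Q P
    have hgk : g * k * g⁻¹ ∈ (P : Subgroup G) := by
      rw [← hg]
      exact Subgroup.smul_mem_pointwise_smul (k : G) (MulAut.conj g) _ (hQ (Subgroup.mem_zpowers _))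
    have hne : g * (k : G) * g⁻¹ ≠ 1 := fun h => hp.out.ne_one (by
      rw [← hord, orderOf_eq_one_iff]
      calc (k : G) = g⁻¹ * (g * k * g⁻¹) * g := by group
        _ = 1 := by rw [h]; group)
    have h1 : η.1 (g * k * g⁻¹) = η.1 1 := (inferInstance : K.Normal).conj_mem _ k.2 g
    have h2 := hsec _ hgk hne 1 (one_mem _) (by simp [hp.out.ne_one])
    rw [mul_one, h1, ← Char.charDegree_cast] at h2
    have h3 : ((charDegree η.1 : ℕ) : ℂ) + 1 = (p : ℂ) := by exact_mod_cast hdeg
    rw [h2, neg_add_cancel] at h3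
    exact hpne h3.symm
  have hKbot : K = ⊥ := by
    refine eq_bot_iff.2 ((PCore.le_pPrimeCore (p := p) ?_).trans hcore.le)
    exact Nat.Coprime.symm ((Nat.Prime.coprime_iff_not_dvd hp.out).2 hKp)
  have hp2 : ¬ p ^ 2 ∣ Nat.card G := by
    intro h2
    have h3 : 2 ≤ (Nat.card G).factorization p :=
      (hp.out.pow_dvd_iff_le_factorization Nat.card_pos.ne').1 h2
    have h4 := Sylow.card_eq_multiplicity P
    change Nat.card (P : Subgroup G) = _ at h4
    rw [hP] at h4
    have := Nat.pow_right_injective hp.out.two_le (show p ^ 1 = p ^ (Nat.card G).factorization p by rw [pow_one]; exact h4)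
    omega
  have hCPP : CP = (P : Subgroup G) := by
    refine P.is_maximal' (fun ⟨g, hg⟩ => ?_) hPC
    refine ⟨1, Subtype.ext ?_⟩
    show g ^ p ^ 1 = 1
    rw [pow_one]
    have hord : ¬ p ∣ orderOf (g ^ p) := fun h => by
      refine hp2 ((?_ : p ^ 2 ∣ orderOf g).trans (orderOf_dvd_natCard g))
      have h4 : p ∣ orderOf g := h.trans (orderOf_pow_dvd p)
      rw [orderOf_pow' _ hp.out.ne_zero, Nat.gcd_eq_right h4] at h
      rw [sq]
      exact Nat.mul_dvd_of_dvd_div h4 h
    have : g ^ p ∈ K := hker _ (pow_mem hg p) hord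
    rwa [hKbot, Subgroup.mem_bot] at this
  refine ⟨hP, fun y hy hy1 => ?_⟩
  rw [centralizer_eq_of_mem hP hy hy1]
  exact hCPP

theorem qIdx_eq_relIndex (h : SelfCent P) :
    qIdx P = (Subgroup.centralizer ((P : Subgroup G) : Set G)).relIndex
      (Subgroup.normalizer ((P : Subgroup G) : Set G)) := by
  rw [h.centralizer_P, Subgroup.relIndex, Subgroup.index_eq_card]
  rfl

end Cfsg.Agent.BrauerPSL
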